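import Cfsg.Agent.Lib.FischerThm.G.Num
import Cfsg.Agent.Lib.FischerMTypes.M24Data
import Cfsg.Agent.Lib.FischerImpossible42.ArithSmall

/-!
# Node G2: a local class of type M(24)

Its parameters 306936, 31671, 3240 fit no trace size.

Owner: helper42.
-/

set_option autoImplicit false
set_option linter.style.haveILetI false

namespace Cfsg.Agent.Lib.FischerThm.G

open Cfsg Cfsg.Agent.Lib.FischerMTypes.Primitive Cfsg.Agent.Lib.FischerImpossible42

universe u

variable {G : Type u} [Group G] [Finite G] {D : Set G} {d : G}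

theorem not_M24 (hP : Prim D) (hd : d ∈ D) (hE : Prim (perpClass D d))
    (h : Cfsg.IsOfTypeM24 _ (perpClass D d)) : False := by
  obtain ⟨Q, _, _, E, Q₂, _, _, E₂, F, _, _, S22, S23, hM, ⟨S⟩⟩ :=
    FischerMTypes.M24Data.exists_step hE.hD hE.hprim h
  obtain ⟨a, ha, -⟩ := hE.hprim.2.1
  have hN := S.ncard_perp ha
  obtain ⟨y, hy⟩ : (perp (perpClass D d) a).Nonempty := Set.nonempty_of_ncard_ne_zero (by omega)
  have hA := S.ncard_edge ha hy
  obtain ⟨z, hz, hz'⟩ : ∃ z ∈ perp (perpClass D d) a, z ∉ insert y (perp₂ (perpClass D d) a y) := by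
    refine Set.exists_mem_notMem_of_ncard_lt_ncard ?_ (Set.toFinite _)
    have := Set.ncard_insert_le y (perp₂ (perpClass D d) a y)
    omega
  have hyz : ¬ Commute y z := fun hc =>
    hz' (Or.inr ⟨hz, hz.1, fun e => hz' (Or.inl e), hc⟩)
  have hn : (perp₂ (perpClass D d) y z).ncard = 3240 :=
    (FischerMTypes.M24Data.pinned S22 S23 hM h S).trace_card y hy.1 z
      ⟨hz.1, hyz, a, ⟨ha, Ne.symm hy.2.1, hy.2.2.symm⟩, ha, Ne.symm hz.2.1, hz.2.2.symm⟩
  have hN' := S.ncard_perp hy.1
  have hya : a ∈ perp (perpClass D d) y := ⟨ha, Ne.symm hy.2.1, hy.2.2.symm⟩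
  have hA' := S.ncard_edge hy.1 hya
  have hF := hE.far_count hy.1 (c := z) ⟨hz.1, hyz⟩ hya
  rw [hn, hN', hA'] at hF
  have hcard : (perpClass D d).ncard = 306936 := by
    have hu : perpClass D d = insert y (perp (perpClass D d) y) ∪ far (perpClass D d) y := by
      ext x
      constructor
      · intro hx
        rcases hE.mem_cases (a := y) hx with rfl | h1 | h1
        · exact Or.inl (Or.inl rfl)
        · exact Or.inl (Or.inr h1)
        · exact Or.inr h1
      · rintro ((rfl | hx) | hx)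
        · exact hy.1
        · exact hx.1
        · exact hx.1
    rw [hu, Set.ncard_union_eq ?_, Set.ncard_insert_of_notMem (fun hh => hh.2.1 rfl), hN']
    · omega
    · rw [Set.disjoint_left]
      rintro x (rfl | hx) hx'
      · exact hx'.2 (Commute.refl x)
      · exact hx'.2 hx.2.2
  have hL := locPar_of hP hd hE hy.1 hz.1 hyz hcard hN' hn
  obtain ⟨b, hb, c, hc, hbc⟩ := hL.noncomm
  obtain ⟨g, hg⟩ := hP.hprim.1 b hb.1 d hd
  have hf : g * c * g⁻¹ ∈ far D d :=
    ⟨hP.hD.2.1 g c hc.1, fun e => hbc ((Commute.conj_iff g).1 (by rwa [hg]))⟩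
  exact Arith.no_M24 (fits hP hd hL hf)

end Cfsg.Agent.Lib.FischerThm.G
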