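import Cfsg.Agent.Lib.FischerThm.G.FiveSpace
import Cfsg.Agent.Lib.FischerImpossible42.ArithSmall

/-!
# Node G2: a local class of type U(5,2)

A trace through a point contains the isotropic points of a complement, is fixed by the stabiliser of
that complement, and then contains three members commuting with each other.

Owner: helper42.
-/

set_option autoImplicit false
set_option linter.style.haveILetI false
set_option linter.unusedSectionVars false

namespace Cfsg.Agent.Lib.FischerThm.G.Five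

open Matrix Cfsg Cfsg.Agent.Lib.Unitary Cfsg.Agent.Lib.UnitaryFour.Transvection
  Cfsg.Agent.Lib.FischerImpossible42
open Cfsg.Agent.Lib.FischerMTypes.Primitive (perp₂ perp₂_closed conj_mem_perp_iff)

universe u

variable {F : Type} [Field F] [Fintype F]
variable {Q : Type u} [Group Q] {E : Set Q}

theorem iso_hyp_left {n : ℕ} {v f : Fin n → F} (hvf : Hyp 2 v f) : v ≠ 0 := fun h => by
  simpa [h, herm_zero_left] using hvf.2.2

/-- a member commuting with everything commuting with two others lies on their line -/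
theorem third_unique (U : UPts E F 5) {y z w : Q} (hy : y ∈ E) (hz : z ∈ E) (hw : w ∈ E)
    (hyz : ¬ Commute y z) (hyw : ¬ Commute y w)
    (hall : ∀ x ∈ E, Commute y x → Commute z x → Commute w x) : w = z ∨ w = y * z * y := by
  have hF := U.hF
  obtain ⟨v, hv, rfl⟩ := U.surj y hy
  obtain ⟨f0, hf0, rfl⟩ := U.surj z hz
  obtain ⟨X, hX, rfl⟩ := U.surj w hw
  have hne : hermForm 5 F 2 v f0 ≠ 0 := fun h => hyz ((U.comm v f0 hv hf0).2 h)
  obtain ⟨k, hk, hk1⟩ : ∃ k : F, k ≠ 0 ∧ hermForm 5 F 2 v (k • f0) = 1 := by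
    refine ⟨((hermForm 5 F 2 v f0)⁻¹) ^ 2, pow_ne_zero _ (inv_ne_zero hne), ?_⟩
    rw [herm_smul_right, pow_four' hF, inv_mul_cancel₀ hne]
  have hf := iso_smul hF hf0 hk
  rw [← U.smul f0 k hf0 hk] at hall ⊢
  have hvf : Hyp 2 v (k • f0) := ⟨hv.1, hf.1, hk1⟩
  obtain ⟨g, hg⟩ := exists_frame hF hvf
  set β := hermForm 5 F 2 X v with hβ
  set α := hermForm 5 F 2 X (k • f0) with hα
  have hβ0 : β ≠ 0 := fun h => hyw ((U.comm v X hv hX).2 (herm_eq_zero_symm hF h))
  have hkey : ∀ y : Fin 3 → F, hermForm 3 F 2 y y = 0 → y ≠ 0 →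
      hermForm 3 F 2 (fun i => hermForm 5 F 2 X (g i)) y = 0 := by
    intro y hy hy0
    have hY : Iso (comb v (k • f0) g 0 0 y) := by
      refine ⟨by rw [hg.herm_comb, hy]; ring, fun h => hy0 (funext fun i => ?_)⟩
      rw [← hg.coord_g 0 0 y i, h, herm_zero_left]; rfl
    have h1 : hermForm 5 F 2 X (comb v (k • f0) g 0 0 y) = 0 :=
      (U.comm X _ hX hY).1 (hall _ (U.mem _ hY)
        ((U.comm v _ hv hY).2 (herm_eq_zero_symm hF (hg.coord_e _ _ _)))
        ((U.comm _ _ hf hY).2 (herm_eq_zero_symm hF (hg.coord_f _ _ _))))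
    rw [hg.expand X, hg.herm_comb] at h1
    simpa using h1
  obtain ⟨o, ho0, ho1, ho⟩ := exists_omega hF
  have h2 := two_eq_zero hF
  have n1 := norm_eq_one hF ho0
  have hfix : o ^ 2 + 1 ≠ 0 := fun h => ho0 (by linear_combination ho - h)
  have c : ∀ i, hermForm 5 F 2 X (g i) = 0 := by
    have a1 := hkey ![1, 1, 0] (by simp [herm3_apply]; linear_combination h2) (fun h => one_ne_zero (congrFun h 0))
    have a2 := hkey ![1, o, 0] (by simp [herm3_apply, n1]; linear_combination h2)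
      (fun h => one_ne_zero (congrFun h 0))
    have a3 := hkey ![0, 1, 1] (by simp [herm3_apply]; linear_combination h2) (fun h => one_ne_zero (congrFun h 1))
    simp [herm3_apply] at a1 a2 a3
    have b1 : hermForm 5 F 2 X (g 1) = 0 := by
      refine (mul_eq_zero.1 (show (o ^ 2 + 1) * hermForm 5 F 2 X (g 1) = 0 from ?_)).resolve_left hfix
      linear_combination a1 + a2 - hermForm 5 F 2 X (g 0) * h2
    rw [b1] at a1 a3
    intro i; fin_cases i
    · simpa using a1
    · exact b1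
    · simpa using a3
  have hX0 : X = comb v (k • f0) g α β 0 := by
    conv_lhs => rw [hg.expand X]
    congr 1
    exact funext c
  have hXX := hX.1
  rw [hX0, hg.herm_comb, herm_zero_left, add_zero] at hXX
  rcases eq_or_ne α 0 with h0 | h0
  · left
    rw [hX0, h0, show comb v (k • f0) g 0 β 0 = β • (k • f0) by simp [comb], U.smul _ β hf hβ0]
  · right
    have hab : α = β := by
      have h3 : α * β * (α + β) = 0 := by linear_combination hXX
      have := (mul_eq_zero.1 h3).resolve_left (mul_ne_zero h0 hβ0)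
      linear_combination this - β * h2
    have hI : Iso (k • f0 + v) := by
      refine ⟨?_, fun h => hyz ?_⟩
      · simp only [herm_add_left, herm_add_right _ _ _ hF, hvf.1, hvf.2.1, hvf.2.2, hvf.symm' hF]
        linear_combination h2
      · rw [← U.smul f0 k hf0 hk, show k • f0 = v from by
          rw [← add_zero (k • f0), ← add_self_zero hF v, ← add_assoc, h, zero_add]]
    rw [U.conj_pt hv hf, hvf.symm' hF, one_smul, hX0, hab,
      show comb v (k • f0) g β β 0 = β • (k • f0 + v) by simp [comb, smul_add, add_comm], U.smul _ β hI hβ0]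

/-- two commuting members commuting with a non-commuting pair coincide -/
theorem no_comm_pair (U : UPts E F 5) {y z a b : Q} (hy : y ∈ E) (hz : z ∈ E) (ha : a ∈ E) (hb : b ∈ E)
    (hyz : ¬ Commute y z) (hya : Commute y a) (hza : Commute z a) (hyb : Commute y b) (hzb : Commute z b)
    (hab : Commute a b) : a = b := by
  have hF := U.hF
  obtain ⟨v, hv, rfl⟩ := U.surj y hy
  obtain ⟨f0, hf0, rfl⟩ := U.surj z hz
  obtain ⟨A, hA, rfl⟩ := U.surj a ha
  obtain ⟨B, hB, rfl⟩ := U.surj b hb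
  have hne : hermForm 5 F 2 v f0 ≠ 0 := fun h => hyz ((U.comm v f0 hv hf0).2 h)
  set k := ((hermForm 5 F 2 v f0)⁻¹) ^ 2 with hk'
  have hk : k ≠ 0 := pow_ne_zero _ (inv_ne_zero hne)
  have hk1 : hermForm 5 F 2 v (k • f0) = 1 := by
    rw [herm_smul_right, hk', pow_four' hF, inv_mul_cancel₀ hne]
  have hf := iso_smul hF hf0 hk
  obtain ⟨g, hg⟩ := exists_frame hF (show Hyp 2 v (k • f0) from ⟨hv.1, hf.1, hk1⟩)
  have hco : ∀ C, Iso C → Commute (U.pt v) (U.pt C) → Commute (U.pt f0) (U.pt C) →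
      C = comb v (k • f0) g 0 0 fun i => hermForm 5 F 2 C (g i) := by
    intro C hC h1 h2
    have e1 : hermForm 5 F 2 C v = 0 := herm_eq_zero_symm hF ((U.comm v C hv hC).1 h1)
    have e2 : hermForm 5 F 2 C (k • f0) = 0 := by
      rw [herm_smul_right, herm_eq_zero_symm hF ((U.comm f0 C hf0 hC).1 h2), mul_zero]
    conv_lhs => rw [hg.expand C, e1, e2]
  obtain ⟨x, eA⟩ : ∃ x, A = comb v (k • f0) g 0 0 x := ⟨_, hco A hA hya hza⟩
  obtain ⟨x', eB⟩ : ∃ x', B = comb v (k • f0) g 0 0 x' := ⟨_, hco B hB hyb hzb⟩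
  have h1 : hermForm 3 F 2 x x = 0 := by
    have := hA.1; rw [eA, hg.herm_comb] at this; simpa using this
  have h2 : hermForm 3 F 2 x' x' = 0 := by
    have := hB.1; rw [eB, hg.herm_comb] at this; simpa using this
  have h3 : hermForm 3 F 2 x' x = 0 := by
    have := (U.comm B A hB hA).1 hab.symm; rw [eA, eB, hg.herm_comb] at this; simpa using this
  have hx0 : x ≠ 0 := fun h => hA.2 (by rw [eA, h]; simp [comb])
  obtain ⟨c, hc⟩ := parallel_of_orth hF h1 hx0 h2 h3
  have hBA : B = c • A := by rw [eA, eB, hc, comb_smul, mul_zero]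
  have hc0 : c ≠ 0 := fun h => hB.2 (by rw [hBA, h, zero_smul])
  rw [hBA, U.smul A c hA hc0]

variable {G : Type u} [Group G] [Finite G] {D : Set G} {d : G}

/-- the type of the local class is the same at every member -/
theorem upts_at (hP : Prim D) (hd : d ∈ D) (h : IsUClass (perpClass D d) 5) {p : G} (hp : p ∈ D) :
    ∃ (F : Type) (_ : Field F) (_ : Fintype F), Nonempty (UPts (perpClass D p) F 5) := by
  obtain ⟨g, rfl⟩ := hP.hprim.1 d hd p hp
  obtain ⟨F, iF, iF', hF, e, he⟩ := h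
  refine exists_upts (by norm_num) ⟨F, iF, iF', hF, (hP.perpEquiv g d).symm.trans e, ?_⟩
  rw [← hP.perpEquiv_image g d, Set.image_image]
  simpa using he

theorem nbr_mem {a p x : G} (ha : a ∈ D) (hp : p ∈ perp₂ D a x) (hx : x ∈ D) :
    a ∈ FischerMTypes.Primitive.perp D p ∧ x ∈ FischerMTypes.Primitive.perp D p :=
  ⟨⟨ha, Ne.symm hp.1.2.1, hp.1.2.2.symm⟩, hx, Ne.symm hp.2.2.1, hp.2.2.2.symm⟩

/-- members of a trace commuting with one of them do not commute -/
theorem anticlique (hP : Prim D) (hd : d ∈ D) (hU : IsUClass (perpClass D d) 5) {c : G} (hc : c ∈ far D d)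
    {p a b : G} (hp : p ∈ perp₂ D d c) (ha : a ∈ perp₂ D d c) (hb : b ∈ perp₂ D d c) (hap : a ≠ p)
    (hbp : b ≠ p) (hpa : Commute p a) (hpb : Commute p b) (hab : Commute a b) : a = b := by
  obtain ⟨F, _, _, ⟨U⟩⟩ := upts_at hP hd hU hp.1.1
  obtain ⟨hdp, hcp⟩ := nbr_mem hd hp hc.1
  have hap' : a ∈ FischerMTypes.Primitive.perp D p := ⟨ha.1.1, hap, hpa⟩
  have hbp' : b ∈ FischerMTypes.Primitive.perp D p := ⟨hb.1.1, hbp, hpb⟩
  refine im_inj hP hp.1.1 hap' hbp' (no_comm_pair U (im_mem hdp) (im_mem hcp) (im_mem hap') (im_mem hbp')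
    ?_ ?_ ?_ ?_ ?_ ?_)
  · exact fun h => hc.2 ((im_comm hP hdp hcp).1 h)
  · exact (im_comm hP hdp hap').2 ha.1.2.2
  · exact (im_comm hP hcp hap').2 ha.2.2.2
  · exact (im_comm hP hdp hbp').2 hb.1.2.2
  · exact (im_comm hP hcp hbp').2 hb.2.2.2
  · exact (im_comm hP hap' hbp').2 hab

/-- traces sharing a member and its neighbours coincide -/
theorem trace_eq (hP : Prim D) (hd : d ∈ D) (hU : IsUClass (perpClass D d) 5) {c c' t : G} (hc : c ∈ far D d)
    (hc' : c' ∈ far D d) (ht : t ∈ perp₂ D d c) (ht' : t ∈ perp₂ D d c')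
    (hsame : ∀ s ∈ perp₂ D d c, s ≠ t → Commute t s → Commute c' s) : perp₂ D d c' = perp₂ D d c := by
  obtain ⟨F, _, _, ⟨U⟩⟩ := upts_at hP hd hU ht.1.1
  obtain ⟨hdt, hct⟩ := nbr_mem hd ht hc.1
  obtain ⟨-, hct'⟩ := nbr_mem hd ht' hc'.1
  rcases third_unique U (im_mem hdt) (im_mem hct) (im_mem hct') (fun h => hc.2 ((im_comm hP hdt hct).1 h))
    (fun h => hc'.2 ((im_comm hP hdt hct').1 h)) (fun x hx h1 h2 => by
      obtain ⟨s, hs, rfl⟩ := exists_im hx
      have k1 := (im_comm hP hdt hs).1 h1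
      have k2 := (im_comm hP hct hs).1 h2
      refine (im_comm hP hct' hs).2 (hsame s ⟨⟨hs.1, fun e => hc.2 (e ▸ k2).symm, k1⟩, hs.1,
        fun e => hc.2 (e ▸ k1), k2⟩ hs.2.1 hs.2.2)) with e | e
  · rw [im_inj hP ht.1.1 hct' hct e]
  · rw [← im_conj hdt hct] at e
    have hm : d * c * d ∈ FischerMTypes.Primitive.perp D t :=
      (FischerMTypes.Primitive.perp_closed hP.hD t).2 d hdt c hct
    rw [im_inj hP ht.1.1 hct' hm e]
    have hfix : ∀ y ∈ perp₂ D d c, d * y * d⁻¹ = y := fun y hy => by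
      rw [hy.1.2.2.eq, mul_inv_cancel_right]
    have h1 := hP.perp₂_image d d c
    rw [show (fun y => d * y * d⁻¹) '' perp₂ D d c = perp₂ D d c from by
        ext y
        exact ⟨fun ⟨z, hz, e'⟩ => by rw [← e']; show d * z * d⁻¹ ∈ _; rw [hfix z hz]; exact hz,
          fun hy => ⟨y, hy, hfix y hy⟩⟩,
      mul_inv_cancel_right, hP.inv hd] at h1
    exact h1.symm

/-- the vectors of a trace -/
def S (U : UPts (perpClass D d) F 5) (c : G) : Set (Fin 5 → F) :=
  {v | Iso v ∧ ∃ s ∈ perp₂ D d c, im D d s = U.pt v}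

theorem not_five (hP : Prim D) (hd : d ∈ D) (hE : Prim (perpClass D d)) (h5 : IsUClass (perpClass D d) 5) :
    False := by
  classical
  obtain ⟨F, _, _, ⟨U⟩, N, A, k, hL, hN, hA, hk⟩ := locPar_unitary hP hd hE (by norm_num) h5
  have hF := U.hF
  have c0 := countNull_zero F 2
  have c1 := countNull_succ hF 0
  have c2 := countNull_succ hF 1
  have c3 := countNull_succ hF 2
  have c4 := countNull_succ hF 3
  have c5 := countNull_succ hF 4
  norm_num at c1 c2 c3 c4 c5 hN hA hk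
  obtain ⟨rfl, rfl, rfl⟩ : N = 165 ∧ A = 36 ∧ k = 9 := ⟨by omega, by omega, by omega⟩
  have hc3 : countNull F 2 3 = 28 := by omega
  obtain ⟨b, hb, b', hb', hbb⟩ := hL.noncomm
  obtain ⟨g₀, hg₀⟩ := hP.hprim.1 b hb.1 d hd
  obtain ⟨c, hc⟩ : ∃ c, c ∈ far D d := ⟨g₀ * b' * g₀⁻¹, hP.hD.2.1 g₀ b' hb'.1,
    fun h => hbb ((Commute.conj_iff g₀).1 (by rwa [hg₀]))⟩
  have hμ : 13 ≤ (perp₂ D d c).ncard := by
    rcases Arith.unitary_five (fits hP hd hL hc) with h | h <;> omega
  obtain ⟨t, ht⟩ := trace_nonempty hP hd hL hc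
  obtain ⟨e, he, hte⟩ := U.surj _ (im_mem ht.1)
  have heS : e ∈ S U c := ⟨he, t, ht, hte.symm⟩
  have hSsmul : ∀ v ∈ S U c, ∀ a : F, a ≠ 0 → a • v ∈ S U c := fun v ⟨hv, s, hs, e'⟩ a ha =>
    ⟨iso_smul hF hv ha, s, hs, by rw [U.smul v a hv ha, e']⟩
  have hScomm : ∀ {v w s r}, Iso v → Iso w → s ∈ perp₂ D d c → r ∈ perp₂ D d c → im D d s = U.pt v →
      im D d r = U.pt w → (Commute s r ↔ hermForm 5 F 2 v w = 0) := by
    intro v w s r hv hw hs hr e1 e2
    rw [← im_comm hP hs.1 hr.1, e1, e2]; exact U.comm v w hv hw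
  have hSline : ∀ v ∈ S U c, ∀ w ∈ S U c, w + hermForm 5 F 2 w v • v ∈ S U c := by
    rintro v ⟨hv, s, hs, e1⟩ w ⟨hw, r, hr, e2⟩
    refine ⟨?_, s * r * s, (perp₂_closed hP.hD d c).2 s hs r hr, ?_⟩
    · refine ⟨?_, ?_⟩
      · rw [← act_tv hF hv.1, act_herm]; exact hw.1
      · rw [← act_tv hF hv.1]; exact act_ne_zero _ hw.2
    · rw [im_conj hs.1 hr.1, e1, e2, U.conj_pt hv hw]
  -- three pairwise orthogonal vectors of different points
  have hclique : ∀ u ∈ S U c, ∀ v ∈ S U c, ∀ w ∈ S U c, hermForm 5 F 2 u v = 0 → hermForm 5 F 2 u w = 0 →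
      hermForm 5 F 2 v w = 0 → (∀ a : F, v ≠ a • u) → (∀ a : F, w ≠ a • u) → (∀ a : F, w ≠ a • v) → False := by
    rintro u ⟨hu, p, hp, e1⟩ v ⟨hv, a, ha, e2⟩ w ⟨hw, r, hr, e3⟩ h1 h2 h3 n1 n2 n3
    have hne : a ≠ p := fun e' => by
      obtain ⟨c', -, h'⟩ := U.inj u v hu hv (by rw [← e1, ← e2, e'])
      exact n1 c' h'
    have hne2 : r ≠ p := fun e' => by
      obtain ⟨c', -, h'⟩ := U.inj u w hu hw (by rw [← e1, ← e3, e'])
      exact n2 c' h'
    have e' := anticlique hP hd h5 hc hp ha hr hne hne2 ((hScomm hu hv hp ha e1 e2).2 h1)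
      ((hScomm hu hw hp hr e1 e3).2 h2) ((hScomm hv hw ha hr e2 e3).2 h3)
    obtain ⟨c', -, h'⟩ := U.inj v w hv hw (by rw [← e2, ← e3, e'])
    exact n3 c' h'
  -- a complement of the point
  obtain ⟨f, hef⟩ := exists_hyp hF he.2 he.1
  obtain ⟨g, hg⟩ := exists_frame hF hef
  set Nb : Set (Fin 5 → F) := {v | v ∈ S U c ∧ hermForm 5 F 2 e v = 0 ∧ ∀ a : F, v ≠ a • e} with hNb
  set X : Set (Fin 3 → F) := {x | Iso x} with hX
  have hXcard : X.ncard = 27 := by
    show {x : Fin 3 → F | Iso x}.ncard = 27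
    have h1 := card_iso (F := F) (n := 3) hF
    rw [hc3] at h1
    omega
  have hNbcard : Nb.ncard = 27 := by
    have hset : {y | y ∈ perpClass D d ∧ ∃ s ∈ perp₂ D d c, s ≠ t ∧ Commute t s ∧ im D d s = y} =
        im D d '' {s | s ∈ perp₂ D d c ∧ s ≠ t ∧ Commute t s} := by
      ext y
      constructor
      · rintro ⟨-, s, hs, h1, h2, rfl⟩; exact ⟨s, ⟨hs, h1, h2⟩, rfl⟩
      · rintro ⟨s, ⟨hs, h1, h2⟩, rfl⟩; exact ⟨im_mem hs.1, s, hs, h1, h2, rfl⟩
    have h3 := U.three_mul (fun y => ∃ s ∈ perp₂ D d c, s ≠ t ∧ Commute t s ∧ im D d s = y)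
    rw [hset, Set.InjOn.ncard_image fun s hs r hr e' => im_inj hP hd hs.1.1 hr.1.1 e',
      trace_nbr hP hd hL hd hc ht] at h3
    rw [hNb]
    refine Eq.trans ?_ h3.symm
    congr 1
    ext v
    constructor
    · rintro ⟨⟨hv, s, hs, e1⟩, h1, h2⟩
      refine ⟨hv, s, hs, fun e' => ?_, (hScomm he hv ht hs hte.symm e1).2 h1, e1⟩
      obtain ⟨c', -, h'⟩ := U.inj e v he hv (by rw [← e1, e', hte])
      exact h2 c' h'
    · rintro ⟨hv, s, hs, h1, h2, e1⟩
      refine ⟨⟨hv, s, hs, e1⟩, (hScomm he hv ht hs hte.symm e1).1 h2, fun a ha => h1 ?_⟩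
      have ha0 : a ≠ 0 := fun h0 => hv.2 (by rw [ha, h0, zero_smul])
      refine im_inj hP hd hs.1 ht.1 ?_
      rw [e1, ha, U.smul e a he ha0, hte]
  let π : (Fin 5 → F) → (Fin 3 → F) := fun v i => hermForm 5 F 2 v (g i)
  have hNexp : ∀ v ∈ Nb, v = comb e f g (hermForm 5 F 2 v f) 0 (π v) := by
    intro v hv
    conv_lhs => rw [hg.expand v, herm_eq_zero_symm hF hv.2.1]
  have hπmem : ∀ v ∈ Nb, π v ∈ X := by
    intro v hv
    refine ⟨?_, fun h0 => hv.2.2 (hermForm 5 F 2 v f) ?_⟩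
    · have := hv.1.1.1
      rw [hNexp v hv, hg.herm_comb] at this
      simpa using this
    · conv_lhs => rw [hNexp v hv, h0]
      simp [comb]
  have hπinj : Set.InjOn π Nb := by
    intro v hv w hw hπ
    by_contra hne
    have hvw : hermForm 5 F 2 v w = 0 := by
      rw [hNexp v hv, hNexp w hw, hg.herm_comb, hπ]
      simp [(hπmem w hw).1]
    refine hclique e heS v hv.1 w hw.1 hv.2.1 hw.2.1 hvw hv.2.2 hw.2.2 fun a ha => hne ?_
    have h1 : π w = a • π v := funext fun i => by simp [π, ha, herm_smul_left]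
    rw [hπ] at h1
    have ha1 : a = 1 := smul_left_injective F (hπmem w hw).2 (show a • π w = (1 : F) • π w by rw [one_smul]; exact h1.symm)
    rw [ha, ha1, one_smul]
  have hπsurj : π '' Nb = X := by
    refine Set.eq_of_subset_of_ncard_le (fun _ ⟨v, hv, e'⟩ => e' ▸ hπmem v hv) ?_ (Set.toFinite _)
    rw [Set.InjOn.ncard_image hπinj, hNbcard, hXcard]
  have hex : ∀ x ∈ X, ∃ a, comb e f g a 0 x ∈ S U c := fun x hx => by
    obtain ⟨v, hv, rfl⟩ : x ∈ π '' Nb := hπsurj.symm ▸ hx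
    exact ⟨_, hNexp v hv ▸ hv.1⟩
  have hmemNb : ∀ {a : F} {x : Fin 3 → F}, x ∈ X → comb e f g a 0 x ∈ S U c → comb e f g a 0 x ∈ Nb := by
    intro a x hx hm
    refine ⟨hm, herm_eq_zero_symm hF (hg.coord_e _ _ _), fun b hb => hx.2 (funext fun i => ?_)⟩
    rw [← hg.coord_g a 0 x i, hb, herm_smul_left, herm_eq_zero_symm hF (hg.perp i).1, mul_zero]; rfl
  have huniq : ∀ {a b : F} {x : Fin 3 → F}, x ∈ X → comb e f g a 0 x ∈ S U c → comb e f g b 0 x ∈ S U c →
      a = b := fun hx h1 h2 =>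
    (hg.comb_inj (hπinj (hmemNb hx h1) (hmemNb hx h2) (funext fun i =>
      (hg.coord_g _ _ _ i).trans (hg.coord_g _ _ _ i).symm))).1
  choose! af haf using hex
  have hsm : ∀ x (a : F), hermForm 3 F 2 x x = 0 → x ≠ 0 → a ≠ 0 → af (a • x) = a * af x := by
    intro x a hx hx0 ha
    refine huniq (iso_smul hF ⟨hx, hx0⟩ ha) (haf _ (iso_smul hF ⟨hx, hx0⟩ ha)) ?_
    have := hSsmul _ (haf x ⟨hx, hx0⟩) a ha
    rwa [comb_smul, mul_zero] at this
  have had : ∀ x y : Fin 3 → F, hermForm 3 F 2 x x = 0 → x ≠ 0 → hermForm 3 F 2 y y = 0 → y ≠ 0 →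
      hermForm 3 F 2 y x = 1 → af (x + y) = af x + af y := by
    intro x y hx hx0 hy hy0 h1
    have hxy : x + y ∈ X := by
      refine ⟨?_, fun h0 => ?_⟩
      · have h2 : hermForm 3 F 2 x y = 1 := by rw [← herm_conj y x hF, h1, one_pow]
        rw [herm_add_left, herm_add_right _ _ _ hF, herm_add_right _ _ _ hF, hx, hy, h1, h2]
        linear_combination two_eq_zero hF
      · have : x = y := by
          rw [← add_zero x, ← add_self_zero hF y, ← add_assoc, h0, zero_add]
        rw [← this, hx] at h1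
        exact zero_ne_one h1
    refine huniq hxy (haf _ hxy) ?_
    have := hSline _ (haf x ⟨hx, hx0⟩) _ (haf y ⟨hy, hy0⟩)
    rw [hg.herm_comb, h1, comb_smul, comb_add] at this
    convert this using 2 <;> simp [add_comm]
  obtain ⟨z, hz⟩ := exists_linear hF af hsm had
  obtain ⟨f', hg'⟩ := hg.shift z
  set g' : Fin 3 → Fin 5 → F := fun i => g i + z i • e
  have hW : ∀ x ∈ X, comb e f' g' 0 0 x ∈ S U c := by
    intro x hx
    convert haf x hx using 1
    simp only [comb, g', zero_smul, zero_add, smul_add, Finset.sum_add_distrib, smul_smul, ← Finset.sum_smul,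
      add_zero, hz x hx.1 hx.2]
    rw [Fin.sum_univ_three (f := fun i => x i * z i)]
    abel
  have hWonly : ∀ v ∈ Nb, ∃ x ∈ X, v = comb e f' g' 0 0 x := by
    intro v hv
    refine ⟨π v, hπmem v hv, hπinj hv ⟨hW _ (hπmem v hv), ?_, ?_⟩ (funext fun i => ?_)⟩
    · exact herm_eq_zero_symm hF (hg'.coord_e _ _ _)
    · intro a ha
      refine (hπmem v hv).2 (funext fun i => ?_)
      rw [← hg'.coord_g 0 0 (π v) i, ha, herm_smul_left,
        show hermForm 5 F 2 e (g' i) = 0 from herm_eq_zero_symm hF (hg'.perp i).1, mul_zero]; rfl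
    · show π v i = hermForm 5 F 2 (comb e f' g' 0 0 (π v)) (g i)
      have h1 := hg'.coord_g 0 0 (π v) i
      simp only [g', herm_add_right _ _ _ hF, herm_smul_right, hg'.coord_e, mul_zero, add_zero] at h1
      exact h1.symm
  -- invariance
  have hinv : ∀ (h : ↥(SU 5 F 2)) (M : (Fin 3 → F) → (Fin 3 → F)),
      (∀ α β y, act h (comb e f' g' α β y) = comb e f' g' α β (M y)) →
      ∀ v ∈ S U c, act h v ∈ S U c := by
    intro h M hM v hv
    obtain ⟨q, hq⟩ : ∃ q : ↥(Hd D d), (QuotientGroup.mk q : ↥(Hd D d) ⧸ _) = U.hom h :=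
      QuotientGroup.mk_surjective _
    have hqd : Commute (q : G) d := (FischerMTypes.Levels.commute_closure (u := d)
      (fun s hs => hs.2.2) (q : G) q.2).symm
    have hcd : (q : G) * d * (q : G)⁻¹ = d := by rw [hqd.eq, mul_inv_cancel_right]
    set c' := (q : G) * c * (q : G)⁻¹
    have hc' : c' ∈ far D d := ⟨hP.hD.2.1 _ c hc.1, fun h' => hc.2 ((Commute.conj_iff (q : G)).1 (by
      rwa [hcd]))⟩
    have hmv : ∀ w ∈ S U c, ∃ s ∈ perp₂ D d c', im D d s = U.pt (act h w) := by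
      rintro w ⟨hw, s, hs, e1⟩
      have hm : (q : G) * s * (q : G)⁻¹ ∈ perp₂ D d c' := by
        have := hP.perp₂_image (q : G) d c
        rw [hcd] at this
        rw [← this]; exact ⟨s, hs, rfl⟩
      refine ⟨_, hm, ?_⟩
      rw [← U.conj h hw, ← e1, ← hq, im_eq (Subgroup.subset_closure hm.1),
        im_eq (Subgroup.subset_closure hs.1)]
      rfl
    have hee : act h e = e := by
      have he' : e = comb e f' g' 1 0 0 := by simp [comb]
      have hM0 : M 0 = 0 := by
        have := hM 0 0 0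
        rw [show comb e f' g' 0 0 0 = 0 by simp [comb], show act h 0 = 0 by simp [act_def]] at this
        exact (hg'.comb_inj ((show comb e f' g' 0 0 0 = 0 by simp [comb]).trans this)).2.2.symm
      conv_lhs => rw [he', hM, hM0]
      exact he'.symm
    have heq : perp₂ D d c' = perp₂ D d c := by
      obtain ⟨t', ht', e'⟩ := hmv e heS
      rw [hee, hte] at e'
      have htt : t' = t := im_inj hP hd ht'.1 ht.1 e'
      rw [htt] at ht'
      refine trace_eq hP hd h5 hc hc' ht ht' fun s hs hst hts => ?_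
      obtain ⟨w, hw, e1⟩ := U.surj _ (im_mem hs.1)
      have hwN : w ∈ Nb := by
        refine ⟨⟨hw, s, hs, e1.symm⟩, (hScomm he hw ht hs hte.symm e1.symm).1 hts, fun a ha => hst ?_⟩
        have ha0 : a ≠ 0 := fun h0 => hw.2 (by rw [ha, h0, zero_smul])
        refine im_inj hP hd hs.1 ht.1 ?_
        rw [← e1, ha, U.smul e a he ha0, hte]
      have hmapN : act h '' Nb ⊆ Nb := by
        rintro _ ⟨u, hu, rfl⟩
        obtain ⟨x, hx, rfl⟩ := hWonly u hu
        have hiso : Iso (act h (comb e f' g' 0 0 x)) :=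
          ⟨by rw [act_herm]; exact hu.1.1.1, act_ne_zero h hu.1.1.2⟩
        rw [hM] at hiso ⊢
        have hMx : M x ∈ X := ⟨by have := hiso.1; rw [hg'.herm_comb] at this; simpa using this,
          fun h0 => hiso.2 (by rw [h0]; simp [comb])⟩
        refine ⟨hW _ hMx, herm_eq_zero_symm hF (hg'.coord_e _ _ _), fun a ha => hMx.2 (funext fun i => ?_)⟩
        rw [← hg'.coord_g 0 0 (M x) i, ha, herm_smul_left,
          show hermForm 5 F 2 e (g' i) = 0 from herm_eq_zero_symm hF (hg'.perp i).1, mul_zero]; rfl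
      have hactinj : Function.Injective (act h) := fun u w huw => by
        rw [← act_inv_self h u, huw, act_inv_self]
      have honto : act h '' Nb = Nb := Set.eq_of_subset_of_ncard_le hmapN
        (by rw [Set.ncard_image_of_injective _ hactinj]) (Set.toFinite _)
      obtain ⟨u, hu, rfl⟩ : w ∈ act h '' Nb := honto.symm ▸ hwN
      obtain ⟨s', hs', e2⟩ := hmv u hu.1
      rw [im_inj hP hd hs'.1 hs.1 (e2.trans e1)] at hs'
      exact hs'.2.2.2
    obtain ⟨s, hs, e1⟩ := hmv v hv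
    exact ⟨⟨by rw [act_herm]; exact hv.1.1, act_ne_zero h hv.1.2⟩, s, heq ▸ hs, e1⟩
  -- a member off the point and off the line
  obtain ⟨a, x, hx0, hm⟩ : ∃ a x, x ≠ 0 ∧ comb e f' g' a 1 x ∈ S U c := by
    by_contra hcon
    push Not at hcon
    have hcov : perp₂ D d c ⊆ insert t {s | s ∈ perp₂ D d c ∧ s ≠ t ∧ Commute t s} ∪
        {s | s ∈ perp₂ D d c ∧ (im D d s = U.pt f' ∨ im D d s = U.pt (f' + e))} := by
      intro s hs
      by_cases h1 : s = t
      · exact Or.inl (Or.inl h1)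
      by_cases h2 : Commute t s
      · exact Or.inl (Or.inr ⟨hs, h1, h2⟩)
      obtain ⟨w, hw, e1⟩ := U.surj _ (im_mem hs.1)
      have hb0 : hermForm 5 F 2 w e ≠ 0 := fun h =>
        h2 ((hScomm he hw ht hs hte.symm e1.symm).2 (herm_eq_zero_symm hF h))
      set β := hermForm 5 F 2 w e with hβ
      have hscaled := hSsmul w ⟨hw, s, hs, e1.symm⟩ β⁻¹ (inv_ne_zero hb0)
      have hexp : β⁻¹ • w = comb e f' g' (β⁻¹ * hermForm 5 F 2 w f') 1
          (β⁻¹ • fun i => hermForm 5 F 2 w (g' i)) := by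
        conv_lhs => rw [hg'.expand w, comb_smul]
        congr 1
        exact inv_mul_cancel₀ hb0
      rw [hexp] at hscaled
      have hx : (β⁻¹ • fun i => hermForm 5 F 2 w (g' i) : Fin 3 → F) = 0 := by
        by_contra h0; exact hcon _ _ h0 hscaled
      set α := β⁻¹ * hermForm 5 F 2 w f'
      have hiso : α + α ^ 2 = 0 := by
        have := hscaled.1.1
        rw [hx, hg'.herm_comb, herm_zero_left] at this
        linear_combination this
      have hpt : im D d s = U.pt (comb e f' g' α 1 0) := by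
        rw [← hx, ← hexp, U.smul w β⁻¹ hw (inv_ne_zero hb0), e1]
      refine Or.inr ⟨hs, ?_⟩
      rcases mul_eq_zero.1 (show α * (1 + α) = 0 by linear_combination hiso) with h0 | h0
      · left; rw [hpt, h0]; simp [comb]
      · right
        rw [hpt, show α = 1 by linear_combination h0 - two_eq_zero hF]
        congr 1; simp [comb, add_comm]
    have h1 := Set.ncard_le_ncard hcov (Set.toFinite _)
    have h2 := Set.ncard_union_le (insert t {s | s ∈ perp₂ D d c ∧ s ≠ t ∧ Commute t s})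
      {s | s ∈ perp₂ D d c ∧ (im D d s = U.pt f' ∨ im D d s = U.pt (f' + e))}
    have h3 := Set.ncard_insert_le t {s | s ∈ perp₂ D d c ∧ s ≠ t ∧ Commute t s}
    rw [trace_nbr hP hd hL hd hc ht] at h3
    have h4 : {s | s ∈ perp₂ D d c ∧ (im D d s = U.pt f' ∨ im D d s = U.pt (f' + e))}.ncard ≤ 2 := by
      refine le_trans (Set.ncard_le_ncard_of_injOn (im D d) (fun s hs => ?_)
        (fun s hs r hr e' => im_inj hP hd hs.1.1 hr.1.1 e') (Set.toFinite ({U.pt f', U.pt (f' + e)} : Set _)))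
        ((Set.ncard_insert_le _ _).trans (by simp))
      rcases hs.2 with h | h <;> simp [h]
    omega
  have h2 := two_eq_zero hF
  obtain ⟨o, ho0, ho1, ho⟩ := exists_omega hF
  have ho3 : o ^ 3 = 1 := cube_eq_one hF ho0
  have hpar : a + a ^ 2 + hermForm 3 F 2 x x = 0 := by
    have := hm.1.1; rw [hg'.herm_comb] at this; linear_combination this
  have hdist : ∀ {y y' : Fin 3 → F}, y ≠ y' → ∀ b : F, comb e f' g' a 1 y' ≠ b • comb e f' g' a 1 y := by
    intro y y' hy b hb
    rw [comb_smul] at hb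
    obtain ⟨-, hb1, hb2⟩ := hg'.comb_inj hb
    rw [mul_one] at hb1
    subst hb1
    exact hy (by rw [hb2, one_smul])
  rcases eq_or_ne (hermForm 3 F 2 x x) 0 with hs | hs
  · obtain ⟨k, hk⟩ := hg'.exists_omega_map ho0
    have m1 := hinv k _ hk _ hm
    have m2 := hinv k _ hk _ m1
    rw [hk] at m1
    rw [hk, hk] at m2
    have hh : ∀ a' b' : F, hermForm 5 F 2 (comb e f' g' a 1 (a' • x)) (comb e f' g' a 1 (b' • x)) = 0 := by
      intro a' b'
      rw [hg'.herm_comb, herm_smul_left, herm_smul_right, hs]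
      linear_combination hpar - hs
    have hm1 : comb e f' g' a 1 x = comb e f' g' a 1 ((1 : F) • x) := by rw [one_smul]
    rw [hm1] at hm
    refine hclique _ hm _ m1 _ m2 (hh _ _) ?_ ?_ (hdist ?_) (hdist ?_) (hdist ?_)
    · rw [smul_smul]; exact hh _ _
    · rw [smul_smul]; exact hh _ _
    · intro h; exact ho1 (smul_left_injective F hx0 (show o • x = (1 : F) • x from h.symm))
    · rw [smul_smul]; intro h
      have h' := smul_left_injective F hx0 (show (o * o) • x = (1 : F) • x from h.symm)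
      exact ho0 (by linear_combination ho - h' - h2)
    · rw [smul_smul]; intro h
      exact ho1 (mul_left_cancel₀ ho0 (by rw [mul_one]; exact (smul_left_injective F hx0 h).symm))
  · have hs1 : hermForm 3 F 2 x x = 1 := mul_left_cancel₀ hs (by linear_combination herm_self_fixed x hF)
    obtain ⟨u, hu, htne, hxu⟩ := exists_second hF hs1
    set τ := hermForm 3 F 2 x u with hτ
    have hτ3 : τ ^ 3 = 1 := cube_eq_one hF htne
    have hux : hermForm 3 F 2 u x = τ ^ 2 := by rw [hτ, herm_conj x u hF]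
    obtain ⟨k1, hk1⟩ := hg'.exists_pair hs1 hu ho0
    obtain ⟨k2, hk2⟩ := hg'.exists_pair hs1 hu (pow_ne_zero 2 ho0)
    have hpm : ∀ z : F, z ≠ 0 → pairMap z x u x = z ^ 2 • x + ((z + 1) * (z ^ 2 * τ)) • u := by
      intro z _
      have e1 : x + ((z ^ 2 + 1) * hermForm 3 F 2 x x) • x = z ^ 2 • x := by
        rw [hs1, mul_one, add_smul, one_smul, ← add_assoc, add_comm x, add_assoc, add_self_zero hF, add_zero]
      rw [pairMap, e1, herm_smul_left]
    have m1 := hinv k1 _ hk1 _ hm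
    have m2 := hinv k2 _ hk2 _ hm
    rw [hk1, hpm o ho0] at m1
    rw [hk2, hpm _ (pow_ne_zero 2 ho0)] at m2
    have e1 : (o + 1) * (o ^ 2 * τ) = o * τ := by
      linear_combination (o * τ) * ho - o * τ * h2
    have e2 : (o ^ 2 + 1) * ((o ^ 2) ^ 2 * τ) = o ^ 2 * τ := by
      linear_combination (τ * o ^ 2 * (o ^ 2 - o + 1)) * ho - τ * o ^ 2 * h2
    rw [e1] at m1
    rw [e2, pow_four' hF] at m2
    set y1 : Fin 3 → F := o ^ 2 • x + (o * τ) • u with hy1
    set y2 : Fin 3 → F := o • x + (o ^ 2 * τ) • u with hy2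
    have hh : ∀ y y' : Fin 3 → F, hermForm 3 F 2 y y' = 1 →
        hermForm 5 F 2 (comb e f' g' a 1 y) (comb e f' g' a 1 y') = 0 := by
      intro y y' h
      rw [hg'.herm_comb, h]
      linear_combination hpar - hs1
    have hne1 : (o ^ 2 + 1) ≠ 0 := fun h => ho0 (by linear_combination ho - h)
    have hne2 : (o + 1) ≠ 0 := fun h => ho1 (by linear_combination h - h2)
    refine hclique _ hm _ m1 _ m2 (hh _ _ ?_) (hh _ _ ?_) (hh _ _ ?_) (hdist ?_) (hdist ?_) (hdist ?_)
    · rw [hy1, herm_add_right _ _ _ hF, herm_smul_right, herm_smul_right, hs1, ← hτ]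
      linear_combination (o ^ 2) * hτ3 + (o ^ 2 - o + 1) * ho - h2
    · rw [hy2, herm_add_right _ _ _ hF, herm_smul_right, herm_smul_right, hs1, ← hτ]
      linear_combination (o ^ 4) * hτ3 + (o ^ 2 - o + 1) * ho - h2
    · rw [hy1, hy2]
      simp only [herm_add_left, herm_add_right _ _ _ hF, herm_smul_left, herm_smul_right, hs1, hu, hux, ← hτ]
      linear_combination (o ^ 6 + o ^ 5 + o ^ 3) * hτ3 + o ^ 4 * ho + ho3
    · intro h
      refine hxu ?_
      have h' : (o ^ 2 + 1) • x = (o * τ) • u := by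
        rw [add_smul, one_smul]
        nth_rewrite 2 [h]
        rw [hy1, ← add_assoc, add_self_zero hF, zero_add]
      have h'' : (o ^ 2 + 1) = o := by linear_combination ho - o * h2
      rw [h'', mul_smul] at h'
      exact smul_right_injective _ ho0 h'
    · intro h
      refine hxu ?_
      have h' : (o + 1) • x = (o ^ 2 * τ) • u := by
        rw [add_smul, one_smul]
        nth_rewrite 2 [h]
        rw [hy2, ← add_assoc, add_self_zero hF, zero_add]
      have h'' : (o + 1) = o ^ 2 := by linear_combination ho - o ^ 2 * h2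
      rw [h'', mul_smul] at h'
      exact smul_right_injective _ (pow_ne_zero 2 ho0) h'
    · intro h
      refine hxu (funext fun i => ?_)
      have h1 := congrFun h i
      simp [hy1, hy2] at h1
      simp [← hτ]
      linear_combination (x i - τ * u i) * ho - h1 - o * (x i - τ * u i) * h2

end Cfsg.Agent.Lib.FischerThm.G.Five
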