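import Cfsg.Agent.Lib.FischerThm.G.UPoints

/-!
# Node G2: five-dimensional unitary coordinates

Coordinates along a hyperbolic pair and an orthonormal triple, linear functions on the isotropic
vectors of the triple's space, and the elements used against a trace.

Owner: helper42.
-/

set_option autoImplicit false
set_option linter.style.haveILetI false
set_option linter.unusedSectionVars false

namespace Cfsg.Agent.Lib.FischerThm.G.Five

open Matrix Cfsg Cfsg.Agent.Lib.Unitary Cfsg.Agent.Lib.UnitaryFour.Transvection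

variable {F : Type} [Field F] [Fintype F]

theorem pow_four' (hF : Fintype.card F = 2 ^ 2) (z : F) : (z ^ 2) ^ 2 = z := by
  rcases eq_or_ne z 0 with rfl | hz
  · simp
  · linear_combination z * cube_eq_one hF hz

theorem herm3_apply (x y : Fin 3 → F) :
    hermForm 3 F 2 x y = x 0 * y 0 ^ 2 + x 1 * y 1 ^ 2 + x 2 * y 2 ^ 2 := by
  simp [hermForm, Fin.sum_univ_three]

/-- a vector by its coordinates -/
def comb (e f : Fin 5 → F) (g : Fin 3 → Fin 5 → F) (α β : F) (x : Fin 3 → F) : Fin 5 → F :=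
  α • e + β • f + ∑ i, x i • g i

/-- a hyperbolic pair and an orthonormal triple orthogonal to it -/
structure Pre (e f : Fin 5 → F) (g : Fin 3 → Fin 5 → F) : Prop where
  hF : Fintype.card F = 2 ^ 2
  hyp : Hyp 2 e f
  orth : Orthonormal' 2 g
  perp : ∀ i, hermForm 5 F 2 (g i) e = 0 ∧ hermForm 5 F 2 (g i) f = 0

/-- ... which span -/
structure Frame (e f : Fin 5 → F) (g : Fin 3 → Fin 5 → F) : Prop extends Pre e f g where
  expand : ∀ v, v = comb e f g (hermForm 5 F 2 v f) (hermForm 5 F 2 v e) fun i => hermForm 5 F 2 v (g i)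

variable {e f : Fin 5 → F} {g : Fin 3 → Fin 5 → F}

theorem Pre.coord_e (h : Pre e f g) (α β : F) (x : Fin 3 → F) :
    hermForm 5 F 2 (comb e f g α β x) e = β := by
  simp [comb, herm_add_left, herm_smul_left, herm_sum_left, h.hyp.1, h.hyp.symm' h.hF, (h.perp _).1]

theorem Pre.coord_f (h : Pre e f g) (α β : F) (x : Fin 3 → F) :
    hermForm 5 F 2 (comb e f g α β x) f = α := by
  simp [comb, herm_add_left, herm_smul_left, herm_sum_left, h.hyp.2.1, h.hyp.2.2, (h.perp _).2]

theorem Pre.coord_g (h : Pre e f g) (α β : F) (x : Fin 3 → F) (i : Fin 3) :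
    hermForm 5 F 2 (comb e f g α β x) (g i) = x i := by
  simp [comb, herm_add_left, herm_smul_left, herm_eq_zero_symm h.hF (h.perp _).1,
    herm_eq_zero_symm h.hF (h.perp _).2, orthonormal_coeff h.orth]

theorem Pre.herm_comb (h : Pre e f g) (α β : F) (x : Fin 3 → F) (α' β' : F) (y : Fin 3 → F) :
    hermForm 5 F 2 (comb e f g α β x) (comb e f g α' β' y) =
      α * β' ^ 2 + β * α' ^ 2 + hermForm 3 F 2 x y := by
  rw [show comb e f g α' β' y = α' • e + β' • f + ∑ i, y i • g i from rfl, herm_add_right _ _ _ h.hF, herm_add_right _ _ _ h.hF, herm_sum_right _ h.hF]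
  simp only [herm_smul_right, h.coord_e, h.coord_f, h.coord_g]
  simp only [hermForm]
  rw [Finset.sum_congr rfl fun i _ => mul_comm (y i ^ 2) (x i)]
  ring

theorem Pre.comb_inj (h : Pre e f g) {α β α' β' : F} {x y : Fin 3 → F}
    (he : comb e f g α β x = comb e f g α' β' y) : α = α' ∧ β = β' ∧ x = y := by
  refine ⟨?_, ?_, funext fun i => ?_⟩
  · rw [← h.coord_f α β x, he, h.coord_f]
  · rw [← h.coord_e α β x, he, h.coord_e]
  · rw [← h.coord_g α β x i, he, h.coord_g]

theorem comb_smul (c α β : F) (x : Fin 3 → F) :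
    c • comb e f g α β x = comb e f g (c * α) (c * β) (c • x) := by
  simp [comb, smul_add, Finset.smul_sum, smul_smul]

theorem comb_add (α β α' β' : F) (x y : Fin 3 → F) :
    comb e f g α β x + comb e f g α' β' y = comb e f g (α + α') (β + β') (x + y) := by
  simp only [comb, Pi.add_apply, add_smul, Finset.sum_add_distrib]
  abel

theorem exists_frame (hF : Fintype.card F = 2 ^ 2) (h : Hyp 2 e f) :
    ∃ g : Fin 3 → Fin 5 → F, Frame e f g := by
  obtain ⟨g, hg, ho, hli⟩ := h.exists_complement hF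
  have hP : Pre e f g := ⟨hF, h, hg, ho⟩
  refine ⟨g, hP, fun v => ?_⟩
  set r := v - comb e f g (hermForm 5 F 2 v f) (hermForm 5 F 2 v e) fun i => hermForm 5 F 2 v (g i)
  have hre : hermForm 5 F 2 r e = 0 := by simp [r, herm_sub_left, hP.coord_e]
  have hrf : hermForm 5 F 2 r f = 0 := by simp [r, herm_sub_left, hP.coord_f]
  have hexp := h.complement_expand hF hg ho hli hre hrf
  have h0 : r = 0 := hexp.trans (Finset.sum_eq_zero fun i _ => by
    rw [show hermForm 5 F 2 r (g i) = 0 from by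
      show hermForm 5 F 2 (v - _) (g i) = 0
      rw [herm_sub_left, hP.coord_g, sub_self], zero_smul])
  exact sub_eq_zero.1 h0

theorem Frame.shift (h : Frame e f g) (z : Fin 3 → F) :
    ∃ f', Frame e f' (fun i => g i + z i • e) := by
  have hF := h.hF
  obtain ⟨o, ho0, ho1, ho⟩ := exists_omega hF
  have h2 := two_eq_zero hF
  obtain ⟨β, hβ⟩ : ∃ β : F, β + β ^ 2 = hermForm 3 F 2 (fun i => z i ^ 2) (fun i => z i ^ 2) := by
    have hs := herm_self_fixed (fun i => z i ^ 2) hF
    generalize hermForm 3 F 2 (fun i => z i ^ 2) (fun i => z i ^ 2) = s at hs ⊢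
    rcases eq_or_ne s 0 with rfl | h0
    · exact ⟨0, by simp⟩
    · refine ⟨o, ?_⟩
      have : s = 1 := mul_left_cancel₀ h0 (by linear_combination hs)
      subst this
      linear_combination ho - h2
  set f' := comb e f g β 1 fun i => z i ^ 2 with hf'
  have he : e = comb e f g 1 0 0 := by simp [comb]
  have hgi : ∀ i, g i + z i • e = comb e f g (z i) 0 (Pi.single i 1) := fun i => by
    simp [comb, Pi.single_apply, add_comm]
  have hyp' : Hyp 2 e f' := by
    refine ⟨h.hyp.1, ?_, ?_⟩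
    · rw [hf', h.herm_comb, ← hβ]; linear_combination (β + β ^ 2) * h2
    · conv_lhs => rw [he, hf', h.herm_comb]
      simp [herm3_apply]
  have hP : Pre e f' (fun i => g i + z i • e) := by
    refine ⟨hF, hyp', fun i j => ?_, fun i => ⟨?_, ?_⟩⟩
    · show hermForm 5 F 2 (g i + z i • e) (g j + z j • e) = _
      rw [hgi, hgi, h.herm_comb]
      fin_cases i <;> fin_cases j <;> simp [herm3_apply]
    · show hermForm 5 F 2 (g i + z i • e) e = 0
      rw [hgi, h.coord_e]
    · show hermForm 5 F 2 (g i + z i • e) f' = 0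
      rw [hgi, hf', h.herm_comb]
      fin_cases i <;> simp [herm3_apply, pow_four' hF] <;>
        [linear_combination z 0 * h2; linear_combination z 1 * h2; linear_combination z 2 * h2]
  refine ⟨f', hP, fun v => ?_⟩
  set r := v - comb e f' (fun i => g i + z i • e) (hermForm 5 F 2 v f') (hermForm 5 F 2 v e)
    fun i => hermForm 5 F 2 v (g i + z i • e)
  have hre : hermForm 5 F 2 r e = 0 := by simp [r, herm_sub_left, hP.coord_e]
  have hrf : hermForm 5 F 2 r f' = 0 := by simp [r, herm_sub_left, hP.coord_f]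
  have hrg : ∀ i, hermForm 5 F 2 r (g i) = 0 := fun i => by
    have h1 : hermForm 5 F 2 r (g i + z i • e) = 0 := by
      show hermForm 5 F 2 (v - _) _ = 0
      rw [herm_sub_left]
      exact sub_eq_zero.2 (hP.coord_g (hermForm 5 F 2 v f') (hermForm 5 F 2 v e) (fun i => hermForm 5 F 2 v (g i + z i • e)) i).symm
    rwa [herm_add_right _ _ _ hF, herm_smul_right, hre, mul_zero, add_zero] at h1
  have hrf0 : hermForm 5 F 2 r f = 0 := by
    rw [hf', comb, herm_add_right _ _ _ hF, herm_add_right _ _ _ hF, herm_sum_right _ hF] at hrf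
    simpa [herm_smul_right, hre, hrg] using hrf
  have h0 : r = 0 := by
    rw [h.expand r, hre, hrf0]
    simp [comb, hrg]
  exact sub_eq_zero.1 h0

/-! ### the three-dimensional space -/

/-- a non-zero isotropic vector of three coordinates has two of them -/
theorem iso_shape (hF : Fintype.card F = 2 ^ 2) {x : Fin 3 → F} (hx : hermForm 3 F 2 x x = 0) (hx0 : x ≠ 0) :
    ∃ c b : F, c ≠ 0 ∧ b ≠ 0 ∧ (x = c • ![1, b, 0] ∨ x = c • ![1, 0, b] ∨ x = c • ![0, 1, b]) := by
  rw [herm3_apply] at hx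
  have h2 := two_eq_zero hF
  have h3 : ∀ a : F, a ≠ 0 → a * a ^ 2 = 1 := fun a ha => norm_eq_one hF ha
  by_cases e0 : x 0 = 0 <;> by_cases e1 : x 1 = 0 <;> by_cases e2 : x 2 = 0
  · exact absurd (funext fun i => by fin_cases i <;> assumption) hx0
  · exfalso; rw [e0, e1, h3 _ e2] at hx; simp at hx
  · exfalso; rw [e0, e2, h3 _ e1] at hx; simp at hx
  · refine ⟨x 1, x 2 / x 1, e1, div_ne_zero e2 e1, Or.inr (Or.inr ?_)⟩
    funext i; fin_cases i <;> simp [e0, mul_div_cancel₀ _ e1]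
  · exfalso; rw [e1, e2, h3 _ e0] at hx; simp at hx
  · refine ⟨x 0, x 2 / x 0, e0, div_ne_zero e2 e0, Or.inr (Or.inl ?_)⟩
    funext i; fin_cases i <;> simp [e1, mul_div_cancel₀ _ e0]
  · refine ⟨x 0, x 1 / x 0, e0, div_ne_zero e1 e0, Or.inl ?_⟩
    funext i; fin_cases i <;> simp [e2, mul_div_cancel₀ _ e0]
  · exfalso
    rw [h3 _ e0, h3 _ e1, h3 _ e2] at hx
    exact one_ne_zero (show (1 : F) = 0 by linear_combination hx - h2)

/-- homogeneous functions additive on lines of isotropic vectors are linear -/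
theorem exists_linear (hF : Fintype.card F = 2 ^ 2) (a : (Fin 3 → F) → F)
    (hsmul : ∀ x (c : F), hermForm 3 F 2 x x = 0 → x ≠ 0 → c ≠ 0 → a (c • x) = c * a x)
    (hadd : ∀ x y : Fin 3 → F, hermForm 3 F 2 x x = 0 → x ≠ 0 → hermForm 3 F 2 y y = 0 → y ≠ 0 →
      hermForm 3 F 2 y x = 1 → a (x + y) = a x + a y) :
    ∃ z : Fin 3 → F, ∀ x, hermForm 3 F 2 x x = 0 → x ≠ 0 → a x = x 0 * z 0 + x 1 * z 1 + x 2 * z 2 := by
  obtain ⟨o, ho0, ho1, ho⟩ := exists_omega hF
  have h2 := two_eq_zero hF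
  have ho3 : o ^ 3 = 1 := cube_eq_one hF ho0
  set A := a ![1, 1, 0] with hA
  set B := a ![1, o, 0] with hB
  obtain ⟨z0, z1, e1, e2⟩ : ∃ z0 z1 : F, A = z0 + z1 ∧ B = z0 + o * z1 := by
    have hne : o + 1 ≠ 0 := fun h => ho1 (by linear_combination h - h2)
    refine ⟨A - (A + B) / (o + 1), (A + B) / (o + 1), by ring, ?_⟩
    field_simp
    first | linear_combination (-A * o - B) * h2 | linear_combination (-A * o + B) * h2
  obtain ⟨z2, e3⟩ : ∃ z2 : F, a ![0, 1, 1] = z1 + z2 := ⟨a ![0, 1, 1] - z1, by ring⟩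
  have iso2 : ∀ b : F, b ≠ 0 → hermForm 3 F 2 ![1, b, 0] ![1, b, 0] = 0 ∧
      hermForm 3 F 2 ![1, 0, b] ![1, 0, b] = 0 ∧ hermForm 3 F 2 ![0, 1, b] ![0, 1, b] = 0 := by
    intro b hb
    refine ⟨?_, ?_, ?_⟩ <;> simp [herm3_apply, norm_eq_one hF hb] <;> linear_combination h2
  have nz : ∀ b : F, (![1, b, 0] : Fin 3 → F) ≠ 0 ∧ (![1, 0, b] : Fin 3 → F) ≠ 0 ∧
      (![0, 1, b] : Fin 3 → F) ≠ 0 := fun b =>
    ⟨fun h => one_ne_zero (congrFun h 0), fun h => one_ne_zero (congrFun h 0), fun h => one_ne_zero (congrFun h 1)⟩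
  have cases4 : ∀ b : F, b ≠ 0 → b = 1 ∨ b = o ∨ b = o ^ 2 := by
    intro b hb
    by_contra hc
    push Not at hc
    refine (mul_ne_zero (mul_ne_zero (sub_ne_zero.2 hc.1) (sub_ne_zero.2 hc.2.1)) (sub_ne_zero.2 hc.2.2)) ?_
    linear_combination cube_eq_one hF hb + (-b ^ 2 + o * b) * ho - ho3
  have k0 : ∀ b : F, b ≠ 0 → a ![1, b, 0] = z0 + b * z1 := by
    intro b hb
    rcases cases4 b hb with rfl | rfl | rfl
    · rw [← hA, e1, one_mul]
    · exact e2
    · have hh := hadd ![1, 1, 0] (o • ![1, o, 0]) (iso2 1 one_ne_zero).1 (nz 1).1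
        (by rw [herm_smul_left, herm_smul_right, (iso2 o ho0).1]; simp) (smul_ne_zero ho0 (nz o).1)
        (by simp [herm3_apply]; linear_combination ho - h2)
      rw [hsmul _ _ (iso2 o ho0).1 (nz o).1 ho0, ← hA, ← hB, e1, e2,
        show (![1, 1, 0] : Fin 3 → F) + o • ![1, o, 0] = o ^ 2 • ![1, o ^ 2, 0] from by
          funext i
          fin_cases i <;> simp
          · linear_combination ho - o ^ 2 * h2
          · linear_combination ho - o * ho3 - o * h2,
        hsmul _ _ (iso2 _ hb).1 (nz _).1 hb] at hh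
      refine mul_left_cancel₀ hb ?_
      linear_combination hh + (z0 + z1) * ho - o ^ 2 * z0 * h2 - o * z1 * ho3 - o * z1 * h2
  have k1 : ∀ b : F, b ≠ 0 → a ![1, 0, b] = z0 + b * z2 := by
    intro b hb
    have hh := hadd ![1, b, 0] (b • ![0, 1, 1]) (iso2 b hb).1 (nz b).1
      (by rw [herm_smul_left, herm_smul_right, (iso2 1 one_ne_zero).2.2]; simp) (smul_ne_zero hb (nz 1).2.2)
      (by simp [herm3_apply, norm_eq_one hF hb])
    rw [hsmul _ _ (iso2 1 one_ne_zero).2.2 (nz 1).2.2 hb, e3, k0 b hb,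
      show (![1, b, 0] : Fin 3 → F) + b • ![0, 1, 1] = ![1, 0, b] from by
        funext i; fin_cases i <;> simp; linear_combination b * h2] at hh
    linear_combination hh + b * z1 * h2
  have k2 : ∀ b : F, b ≠ 0 → a ![0, 1, b] = z1 + b * z2 := by
    intro b hb
    have hh := hadd ![1, 1, 0] ![1, 0, b] (iso2 1 one_ne_zero).1 (nz 1).1 (iso2 b hb).2.1 (nz b).2.1
      (by simp [herm3_apply])
    rw [← hA, e1, k1 b hb, show (![1, 1, 0] : Fin 3 → F) + ![1, 0, b] = ![0, 1, b] from by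
      funext i; fin_cases i <;> simp; linear_combination h2] at hh
    linear_combination hh + z0 * h2
  refine ⟨![z0, z1, z2], fun x hx hx0 => ?_⟩
  obtain ⟨c, b, hc, hb, rfl | rfl | rfl⟩ := iso_shape hF hx hx0
  · rw [hsmul _ _ (iso2 b hb).1 (nz b).1 hc, k0 b hb]; simp; ring
  · rw [hsmul _ _ (iso2 b hb).2.1 (nz b).2.1 hc, k1 b hb]; simp; ring
  · rw [hsmul _ _ (iso2 b hb).2.2 (nz b).2.2 hc, k2 b hb]; simp; ring

/-- no two independent orthogonal isotropic vectors in three coordinates -/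
theorem parallel_of_orth (hF : Fintype.card F = 2 ^ 2) {x y : Fin 3 → F} (hx : hermForm 3 F 2 x x = 0)
    (hx0 : x ≠ 0) (hy : hermForm 3 F 2 y y = 0) (h : hermForm 3 F 2 y x = 0) : ∃ c : F, y = c • x := by
  by_contra hc
  push Not at hc
  have h4 := card_orth_iso hF hx0 hx
  have h1 : countNull F 2 (3 - 2) = 1 := by
    have := countNull_succ hF 0
    rw [countNull_zero] at this
    norm_num at this ⊢
    omega
  rw [h1, Nat.sub_self, mul_zero, Nat.card_eq_zero] at h4
  rcases h4 with h4 | h4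
  · exact h4.false ⟨y, h, hy, hc⟩
  · exact h4.not_finite inferInstance

/-- a vector of norm one meets another one of norm one -/
theorem exists_second (hF : Fintype.card F = 2 ^ 2) {x : Fin 3 → F} (hx : hermForm 3 F 2 x x = 1) :
    ∃ u : Fin 3 → F, hermForm 3 F 2 u u = 1 ∧ hermForm 3 F 2 x u ≠ 0 ∧ x ≠ hermForm 3 F 2 x u • u := by
  have h2 := two_eq_zero hF
  rw [herm3_apply] at hx
  have h3 : ∀ a : F, a ≠ 0 → a * a ^ 2 = 1 := fun a ha => norm_eq_one hF ha
  by_cases e : x 0 ≠ 0 ∧ x 1 ≠ 0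
  · refine ⟨![1, 0, 0], by simp [herm3_apply], by simpa [herm3_apply] using e.1, fun h => e.2 ?_⟩
    simpa [herm3_apply] using congrFun h 1
  · have one : ((1 : F) + 1 + 1) = 1 := by linear_combination h2
    refine ⟨![1, 1, 1], by simp [herm3_apply, one], ?_, fun h => ?_⟩ <;> rw [not_and_or, not_not, not_not] at e
    · simp [herm3_apply]
      rcases e with e | e <;> rw [e] at hx ⊢
      · by_cases e1 : x 1 = 0
        · rw [e1] at hx ⊢; intro h; simp at h; rw [h] at hx; simp at hx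
        · by_cases e2 : x 2 = 0
          · rw [e2]; simpa using e1
          · exfalso; rw [h3 _ e1, h3 _ e2] at hx; exact one_ne_zero (show (1 : F) = 0 by linear_combination -hx + h2)
      · by_cases e1 : x 0 = 0
        · rw [e1] at hx ⊢; intro h; simp at h; rw [h] at hx; simp at hx
        · by_cases e2 : x 2 = 0
          · rw [e2]; simpa using e1
          · exfalso; rw [h3 _ e1, h3 _ e2] at hx; exact one_ne_zero (show (1 : F) = 0 by linear_combination -hx + h2)
    · have e0 := congrFun h 0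
      have e1 := congrFun h 1
      have e2 := congrFun h 2
      simp at e0 e1 e2
      rcases e with e | e <;> [rw [e] at e0; rw [e] at e1]
      · rw [← e0] at e1 e2; rw [e, e1, e2] at hx; simp at hx
      · rw [← e1] at e0 e2; rw [e, e0, e2] at hx; simp at hx

/-! ### elements -/

theorem mem_SU_of_det {n : ℕ} (A : GU n F 2) (h : A.1.1.det = 1) : ∃ k : ↥(SU n F 2), ∀ v, act k v = A.1.1 *ᵥ v :=
  ⟨⟨⟨A.1.1, h⟩, A.2⟩, fun _ => rfl⟩

theorem exists_scale (hF : Fintype.card F = 2 ^ 2) {X : Fin 5 → F} (hX : hermForm 5 F 2 X X = 1) {z : F}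
    (hz : z ≠ 0) : ∃ A : GU 5 F 2, A.1.1.det = z ∧
      ∀ v, A.1.1 *ᵥ v = v + ((z + 1) * hermForm 5 F 2 v X) • X := by
  obtain ⟨A, hdet, hAX, hfix⟩ := exists_GU_scale hF hX (norm_eq_one hF hz)
  refine ⟨A, hdet, fun v => ?_⟩
  set t := hermForm 5 F 2 v X
  have h0 : hermForm 5 F 2 (v + t • X) X = 0 := by
    rw [herm_add_left, herm_smul_left, hX]; linear_combination t * two_eq_zero hF
  have h := hfix _ h0
  rw [Matrix.mulVec_add, Matrix.mulVec_smul, hAX, smul_smul] at h
  calc A.1.1 *ᵥ v = (A.1.1 *ᵥ v + (t * z) • X) + (t * z) • X := by rw [add_assoc, add_self_zero hF, add_zero]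
    _ = v + ((z + 1) * t) • X := by rw [h, add_assoc, ← add_smul]; congr 2; ring

/-- the first map on three coordinates -/
def pairMap (z : F) (x u y : Fin 3 → F) : Fin 3 → F :=
  (y + ((z ^ 2 + 1) * hermForm 3 F 2 y x) • x) +
    ((z + 1) * hermForm 3 F 2 (y + ((z ^ 2 + 1) * hermForm 3 F 2 y x) • x) u) • u

theorem Frame.exists_pair (h : Frame e f g) {x u : Fin 3 → F} (hx : hermForm 3 F 2 x x = 1)
    (hu : hermForm 3 F 2 u u = 1) {z : F} (hz : z ≠ 0) :
    ∃ k : ↥(SU 5 F 2), ∀ α β y, act k (comb e f g α β y) = comb e f g α β (pairMap z x u y) := by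
  obtain ⟨A, hA1, hA2⟩ := exists_scale h.hF (X := comb e f g 0 0 x) (z := z ^ 2)
    (by rw [h.herm_comb, hx]; ring) (pow_ne_zero _ hz)
  obtain ⟨B, hB1, hB2⟩ := exists_scale h.hF (X := comb e f g 0 0 u) (z := z)
    (by rw [h.herm_comb, hu]; ring) hz
  obtain ⟨k, hk⟩ := mem_SU_of_det (B * A) (by
    simp only [Subgroup.coe_mul, Units.val_mul, Matrix.det_mul, hA1, hB1]
    linear_combination cube_eq_one h.hF hz)
  refine ⟨k, fun α β y => ?_⟩
  rw [hk]
  simp only [Subgroup.coe_mul, Units.val_mul, ← Matrix.mulVec_mulVec, hA2, hB2, h.herm_comb, comb_smul,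
    comb_add, pairMap]
  congr 1 <;> simp

theorem Frame.exists_omega_map (h : Frame e f g) {z : F} (hz : z ≠ 0) :
    ∃ k : ↥(SU 5 F 2), ∀ α β y, act k (comb e f g α β y) = comb e f g α β (z • y) := by
  have hs : ∀ i, hermForm 5 F 2 (comb e f g 0 0 (Pi.single i 1)) (comb e f g 0 0 (Pi.single i 1)) = 1 := by
    intro i; rw [h.herm_comb]; fin_cases i <;> simp [herm3_apply]
  obtain ⟨A, hA1, hA2⟩ := exists_scale h.hF (hs 0) hz
  obtain ⟨B, hB1, hB2⟩ := exists_scale h.hF (hs 1) hz
  obtain ⟨C, hC1, hC2⟩ := exists_scale h.hF (hs 2) hz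
  obtain ⟨k, hk⟩ := mem_SU_of_det (C * B * A) (by
    simp only [Subgroup.coe_mul, Units.val_mul, Matrix.det_mul, hA1, hB1, hC1]
    linear_combination cube_eq_one h.hF hz)
  refine ⟨k, fun α β y => ?_⟩
  rw [hk]
  simp only [Subgroup.coe_mul, Units.val_mul, ← Matrix.mulVec_mulVec, hA2, hB2, hC2, h.herm_comb, comb_smul,
    comb_add]
  congr 1
  · simp
  · simp
  · funext i
    have h2 := two_eq_zero h.hF
    fin_cases i <;> simp [herm3_apply] <;>
      [linear_combination y 0 * h2; linear_combination y 1 * h2; linear_combination y 2 * h2]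

end Cfsg.Agent.Lib.FischerThm.G.Five
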