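import Cfsg.Agent.Lib.FischerThm.Defs
import Cfsg.Agent.Lib.FischerMTypes.Basic

/-!
# Node G: the models of symplectic type have no affine planes

Three transpositions acting as rank one perturbations over two elements: a member meets a line in a
commuting member.

Owner: helper42.
-/

set_option autoImplicit false
set_option linter.style.haveILetI false
set_option linter.unusedSectionVars false

namespace Cfsg.Agent.Lib.FischerThm.G

open Matrix Cfsg Cfsg.Agent.Lib.FischerMTypes.Basic

universe u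

variable {ι : Type} [Fintype ι] [DecidableEq ι]

theorem tv_mulVec (v w x : ι → ZMod 2) : (1 + vecMulVec v w) *ᵥ x = x + (w ⬝ᵥ x) • v := by
  rw [add_mulVec, one_mulVec, vecMulVec_mulVec, op_smul_eq_smul]

theorem two_cases : ∀ a : ZMod 2, a = 0 ∨ a = 1 := by decide

theorem two_self : ∀ a : ZMod 2, a + a = 0 := by decide

theorem exists_vecMulVec_of_rank {M : Matrix ι ι (ZMod 2)} (h : M.rank = 1) :
    ∃ v w : ι → ZMod 2, M = vecMulVec v w := by
  obtain ⟨⟨v, hv⟩, hv0, hspan⟩ := finrank_eq_one_iff'.1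
    (show Module.finrank (ZMod 2) (LinearMap.range M.mulVecLin) = 1 from h)
  choose w hw using fun j : ι => hspan ⟨M.mulVecLin (Pi.single j 1), LinearMap.mem_range_self _ _⟩
  refine ⟨v, w, Matrix.ext fun i j => ?_⟩
  have h1 := congrFun (congrArg Subtype.val (hw j)) i
  simp only [SetLike.val_smul, Pi.smul_apply, smul_eq_mul, mulVecLin_apply, mulVec_single_one] at h1
  rw [vecMulVec_apply, mul_comm, h1]
  rfl

variable {Q : Type u} [Group Q] {E : Set Q}

theorem key₅ : ∀ p s t α β : ZMod 2,
    p + s * α + (t * β + s * β) + s * α = p + t * β + s * α + (t * β + s * β) → p + s * α = p + t * β := by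
  decide

/-- a member meets a line in a commuting member -/
theorem noPlane_of_rep (hE : IsThreeTranspositionGroup E) (φ : Q →* Matrix ι ι (ZMod 2))
    (hφ : Function.Injective φ) (htv : ∀ a ∈ E, ∃ v w, φ a = 1 + vecMulVec v w) : NoPlane E := by
  have hsq : ∀ a ∈ E, ∀ v w, φ a = 1 + vecMulVec v w → w ⬝ᵥ v = 0 ∧ v ≠ 0 ∧ w ≠ 0 := by
    intro a ha v w e
    have hne : vecMulVec v w ≠ 0 := fun h0 => by
      rw [h0, add_zero, ← map_one φ] at e
      exact ne_one hE.1 ha (hφ e)
    have hv : v ≠ 0 := fun h0 => hne (by rw [h0, zero_vecMulVec])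
    have hw : w ≠ 0 := fun h0 => hne (by rw [h0, vecMulVec_zero])
    have h1 : φ a * φ a = 1 := by rw [← map_mul, mul_self hE.1 ha, map_one]
    obtain ⟨j, hj⟩ := Function.ne_iff.1 hw
    have h2 := congrArg (· *ᵥ Pi.single j 1) h1
    simp only [← mulVec_mulVec, e, tv_mulVec, one_mulVec, dotProduct_add, dotProduct_smul, dotProduct_single,
      mul_one, smul_eq_mul, (two_cases (w j)).resolve_left hj, one_mul, one_smul, add_smul] at h2
    have hvv : v + v = 0 := funext fun i => two_self (v i)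
    rw [add_assoc, ← add_assoc v v, hvv, zero_add, add_eq_left, smul_eq_zero] at h2
    exact ⟨h2.resolve_right hv, hv, hw⟩
  have hcomm : ∀ a ∈ E, ∀ b ∈ E, ∀ va wa vb wb, φ a = 1 + vecMulVec va wa → φ b = 1 + vecMulVec vb wb →
      wa ⬝ᵥ vb = 0 → wb ⬝ᵥ va = 0 → Commute a b := by
    intro a _ b _ va wa vb wb ea eb h1 h2
    refine hφ ?_
    rw [map_mul, map_mul]
    refine Matrix.ext_iff_mulVec.mpr fun x => ?_
    simp only [← mulVec_mulVec, ea, eb, tv_mulVec, dotProduct_add, dotProduct_smul, h1, h2, smul_zero, add_zero]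
    abel
  have hadj : ∀ a ∈ E, ∀ b ∈ E, ¬ Commute a b → ∀ va wa vb wb, φ a = 1 + vecMulVec va wa →
      φ b = 1 + vecMulVec vb wb → wa ⬝ᵥ vb = 1 := by
    intro a ha b hb hab va wa vb wb ea eb
    obtain ⟨haa, hva, hwa⟩ := hsq a ha va wa ea
    obtain ⟨hbb, hvb, hwb⟩ := hsq b hb vb wb eb
    rcases two_cases (wa ⬝ᵥ vb) with h1 | h1
    · exfalso
      have h2 : wb ⬝ᵥ va = 1 := (two_cases (wb ⬝ᵥ va)).resolve_left fun h2 =>
        hab (hcomm a ha b hb va wa vb wb ea eb h1 h2)
      have hbr := congrArg φ (braid hE.1 ha hb hab)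
      simp only [map_mul] at hbr
      -- only one of the two incidences gives order four
      obtain ⟨x, hx⟩ : ∃ x, wb ⬝ᵥ x = 1 := ⟨va, h2⟩
      have e := fun x => congrArg (· *ᵥ x) hbr
      simp only [← mulVec_mulVec, ea, eb, tv_mulVec, dotProduct_add, dotProduct_smul, haa, hbb, h1, h2,
        smul_eq_mul, mul_zero, mul_one, add_zero, add_smul] at e
      refine hab (hcomm a ha b hb va wa vb wb ea eb h1 ?_)
      by_contra hne
      have hab' : φ a = φ b := by
        refine Matrix.ext_iff_mulVec.mpr fun y => ?_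
        rw [ea, eb, tv_mulVec, tv_mulVec]
        funext i
        have ei := congrFun (e y) i
        simp only [Pi.add_apply, Pi.smul_apply, smul_eq_mul] at ei ⊢
        exact key₅ _ _ _ _ _ ei
      exact hab (hφ hab' ▸ Commute.refl a)
    · exact h1
  intro a ha b hb c hc hab hac hbc hne
  obtain ⟨va, wa, ea⟩ := htv a ha
  obtain ⟨vb, wb, eb⟩ := htv b hb
  obtain ⟨vc, wc, ec⟩ := htv c hc
  have e1 := hadj a ha b hb hab va wa vb wb ea eb
  have e2 := hadj b hb a ha (fun h => hab h.symm) vb wb va wa eb ea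
  have e3 := hadj a ha c hc hac va wa vc wc ea ec
  have e4 := hadj c hc a ha (fun h => hac h.symm) vc wc va wa ec ea
  have e5 := hadj b hb c hc hbc vb wb vc wc eb ec
  have e6 := hadj c hc b hb (fun h => hbc h.symm) vc wc vb wb ec eb
  refine hφ ?_
  rw [map_mul φ c, map_mul φ (a * b * a) c, map_mul φ (a * b), map_mul φ a b]
  refine Matrix.ext_iff_mulVec.mpr fun x => ?_
  funext i
  simp only [← mulVec_mulVec, ea, eb, ec, tv_mulVec, dotProduct_add, dotProduct_smul, e1, e2, e3, e4, e5, e6,
    (hsq a ha va wa ea).1, (hsq b hb vb wb eb).1, smul_eq_mul, Pi.add_apply, Pi.smul_apply, mul_one, mul_zero,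
    add_zero]
  generalize x i = p, wa ⬝ᵥ x = s, wb ⬝ᵥ x = t, wc ⬝ᵥ x = r, va i = α, vb i = β, vc i = γ
  clear * -
  revert p s t r α β γ
  decide

theorem noPlane_inSymp (hE : IsThreeTranspositionGroup E) (h : InSymp E) : NoPlane E := by
  rcases h with ⟨n, -, e, he⟩ | ⟨m, -, e, he⟩ | ⟨m, -, e, he⟩ | ⟨m, -, e, he⟩
  · let π : Equiv.Perm (Fin n) →* Matrix (Fin n) (Fin n) (ZMod 2) :=
      { toFun := fun σ => (σ⁻¹ : Equiv.Perm (Fin n)).permMatrix (ZMod 2)
        map_one' := by simp
        map_mul' := fun σ τ => by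
          rw [_root_.mul_inv_rev]; exact Matrix.permMatrix_mul _ _ }
    refine noPlane_of_rep hE (π.comp e.toMonoidHom) ?_ ?_
    · suffices h : Function.Injective π from h.comp e.injective
      intro σ τ hst
      refine inv_injective ?_
      refine Equiv.ext fun i => ?_
      have h1 := congrFun (congrFun hst i) ((τ⁻¹ : Equiv.Perm (Fin n)) i)
      simp [π, Equiv.Perm.permMatrix, PEquiv.toMatrix_apply] at h1
      exact h1
    · intro a ha
      obtain ⟨p, q, hpq, hσ⟩ : (e a).IsSwap := (Set.ext_iff.1 he (e a)).1 ⟨a, ha, rfl⟩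
      refine ⟨fun i => (if i = p then 1 else 0) + (if i = q then 1 else 0),
        fun i => (if i = p then 1 else 0) + (if i = q then 1 else 0), Matrix.ext fun i j => ?_⟩
      show (e a)⁻¹.permMatrix (ZMod 2) i j = _
      rw [hσ, Equiv.swap_inv]
      simp only [Equiv.Perm.permMatrix, PEquiv.toMatrix_apply, Equiv.toPEquiv_apply, Option.mem_def,
        Option.some.injEq, Matrix.add_apply, Matrix.one_apply, vecMulVec_apply]
      by_cases hip : i = p
      · subst hip
        rw [Equiv.swap_apply_left]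
        by_cases h1 : j = q <;> by_cases h2 : j = i <;> simp_all [eq_comm] <;> decide
      by_cases hiq : i = q
      · subst hiq
        rw [Equiv.swap_apply_right]
        by_cases h1 : j = p <;> by_cases h2 : j = i <;> simp_all [eq_comm] <;> decide
      rw [Equiv.swap_apply_of_ne_of_ne hip hiq]
      by_cases h1 : i = j <;> simp_all
  · let π : Matrix.symplecticGroup (Fin m) (ZMod 2) →* Matrix (Fin m ⊕ Fin m) (Fin m ⊕ Fin m) (ZMod 2) :=
      Submonoid.subtype _
    refine noPlane_of_rep hE (π.comp e.toMonoidHom) ?_ ?_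
    · exact Subtype.val_injective.comp e.injective
    · intro a ha
      obtain ⟨v, w, hM⟩ := exists_vecMulVec_of_rank ((Set.ext_iff.1 he (e a)).1 ⟨a, ha, rfl⟩)
      exact ⟨v, w, by rw [← hM, add_sub_cancel]; rfl⟩
  all_goals
    refine noPlane_of_rep hE ((Units.coeHom _).comp ((Subgroup.subtype _).comp e.toMonoidHom)) ?_ ?_
    · exact Units.val_injective.comp (Subtype.val_injective.comp e.injective)
    · intro a ha
      obtain ⟨v, w, hM⟩ := exists_vecMulVec_of_rank ((Set.ext_iff.1 he (e a)).1 ⟨a, ha, rfl⟩)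
      exact ⟨v, w, by rw [← hM, add_sub_cancel]; rfl⟩

end Cfsg.Agent.Lib.FischerThm.G
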