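import Cfsg.Agent.Lib.FischerThm.Local
import Cfsg.Agent.Lib.FischerImpossible42.Spectral
import Cfsg.Agent.Lib.FischerImpossible42.Arith

/-!
# Node G: the numbers of a climb

With the parameters of the local class, the trace size satisfies `Arith.Fits`.

Owner: helper42.
-/

set_option autoImplicit false
set_option linter.style.haveILetI false
set_option linter.unusedSectionVars false

namespace Cfsg.Agent.Lib.FischerThm.G

open Cfsg Cfsg.Agent.Lib.FischerMTypes.Primitive Cfsg.Agent.Lib.FischerMTypes.Basic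
  Cfsg.Agent.Lib.FischerMTypes.Unique Cfsg.Agent.Lib.FischerImpossible42

universe u

variable {G : Type u} [Group G] [Finite G] {D : Set G}

/-- the parameters of the local class at `d` -/
structure LocPar (D : Set G) (d : G) (N A n : ℕ) : Prop where
  perp_card : (perp D d).ncard = N
  edge_card : ∀ b ∈ perp D d, (perp₂ D d b).ncard = A
  trace_card : ∀ b ∈ perp D d, ∀ c ∈ perp D d, ¬ Commute b c →
    {y | y ∈ perp D d ∧ (Commute b y ∧ Commute c y)}.ncard = n
  noncomm : ∃ b ∈ perp D d, ∃ c ∈ perp D d, ¬ Commute b c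

/-- the image of a member of `perp D d` in the local group -/
noncomputable def im (D : Set G) (d y : G) : ↥(Hd D d) ⧸ Subgroup.center ↥(Hd D d) :=
  open Classical in if h : y ∈ Hd D d then QuotientGroup.mk ⟨y, h⟩ else 1

theorem im_eq {d y : G} (h : y ∈ Hd D d) : im D d y = QuotientGroup.mk ⟨y, h⟩ := dif_pos h

theorem im_mem {d y : G} (hy : y ∈ perp D d) : im D d y ∈ perpClass D d :=
  ⟨⟨y, Subgroup.subset_closure hy⟩, hy, (im_eq _).symm⟩

theorem exists_im {d : G} {q : ↥(Hd D d) ⧸ Subgroup.center ↥(Hd D d)} (hq : q ∈ perpClass D d) :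
    ∃ y ∈ perp D d, im D d y = q := by
  obtain ⟨x, hx, rfl⟩ := hq
  exact ⟨x, hx, im_eq x.2⟩

theorem im_comm {d y z : G} (hP : Prim D) (hy : y ∈ perp D d) (hz : z ∈ perp D d) :
    Commute (im D d y) (im D d z) ↔ Commute y z := by
  rw [im_eq (Subgroup.subset_closure hy), im_eq (Subgroup.subset_closure hz)]
  exact im_commute_iff hP.hD hy hz

theorem im_inj {d y z : G} (hP : Prim D) (hd : d ∈ D) (hy : y ∈ perp D d) (hz : z ∈ perp D d)
    (h : im D d y = im D d z) : y = z := by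
  rw [im_eq (Subgroup.subset_closure hy), im_eq (Subgroup.subset_closure hz)] at h
  exact im_injective' hP.hD hP.subsetEq hd hy hz h

theorem im_conj {d y z : G} (hy : y ∈ perp D d) (hz : z ∈ perp D d) :
    im D d (y * z * y) = im D d y * im D d z * im D d y := by
  have h1 : y ∈ Hd D d := Subgroup.subset_closure hy
  have h2 : z ∈ Hd D d := Subgroup.subset_closure hz
  rw [im_eq (mul_mem (mul_mem h1 h2) h1), im_eq h1, im_eq h2, ← QuotientGroup.mk_mul, ← QuotientGroup.mk_mul]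
  rfl

theorem ncard_im {d : G} (hP : Prim D) (hd : d ∈ D) (P : G → Prop)
    (P' : ↥(Hd D d) ⧸ Subgroup.center ↥(Hd D d) → Prop) (h : ∀ y ∈ perp D d, P y ↔ P' (im D d y)) :
    {y | y ∈ perp D d ∧ P y}.ncard = {q | q ∈ perpClass D d ∧ P' q}.ncard := by
  refine Set.ncard_congr (fun y _ => im D d y) ?_ ?_ ?_
  · exact fun y hy => ⟨im_mem hy.1, (h y hy.1).mp hy.2⟩
  · exact fun y z hy hz he => im_inj hP hd hy.1 hz.1 he
  · rintro q ⟨hq, hq'⟩
    obtain ⟨y, hy, rfl⟩ := exists_im hq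
    exact ⟨y, ⟨hy, (h y hy).mpr hq'⟩, rfl⟩

/-- parameters of the local class give local parameters -/
theorem locPar_of {d : G} (hP : Prim D) (hd : d ∈ D) (hE : Prim (perpClass D d))
    {a b : ↥(Hd D d) ⧸ Subgroup.center ↥(Hd D d)} (ha : a ∈ perpClass D d) (hb : b ∈ perpClass D d)
    (hab : ¬ Commute a b) {N A n : ℕ} (hN : (perpClass D d).ncard = N) (hA : (perp (perpClass D d) a).ncard = A)
    (hn : (perp₂ (perpClass D d) a b).ncard = n) : LocPar D d N A n := by
  refine ⟨(hP.perpClass_ncard hd).symm.trans hN, ?_, ?_, ?_⟩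
  · intro y hy
    rw [show perp₂ D d y = {z | z ∈ perp D d ∧ (z ≠ y ∧ Commute y z)} from Set.ext fun z =>
      ⟨fun h => ⟨h.1, h.2.2⟩, fun h => ⟨h.1, h.1.1, h.2⟩⟩,
      ncard_im hP hd _ (fun q => q ≠ im D d y ∧ Commute (im D d y) q) fun z hz => by
        rw [im_comm hP hy hz]
        exact and_congr_left fun _ => not_congr ⟨fun h => h ▸ rfl, im_inj hP hd hz hy⟩]
    exact (hE.perp_ncard (im_mem hy) ha).trans hA
  · intro y hy z hz hyz
    rw [ncard_im hP hd _ (fun q => Commute (im D d y) q ∧ Commute (im D d z) q) fun w hw => by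
      rw [im_comm hP hy hw, im_comm hP hz hw]]
    have hnc : ¬ Commute (im D d y) (im D d z) := fun h => hyz ((im_comm hP hy hz).mp h)
    refine Eq.trans ?_ ((hE.trace_ncard (im_mem hy) ⟨im_mem hz, hnc⟩ ha ⟨hb, hab⟩).trans hn)
    congr 1
    ext q
    exact ⟨fun h => ⟨⟨h.1, fun he => hnc (he ▸ h.2.2).symm, h.2.1⟩, h.1, fun he => hnc (he ▸ h.2.1), h.2.2⟩,
      fun h => ⟨h.1.1, h.1.2.2, h.2.2.2⟩⟩
  · obtain ⟨y, hy, rfl⟩ := exists_im ha
    obtain ⟨z, hz, rfl⟩ := exists_im hb
    exact ⟨y, hy, z, hz, fun h => hab ((im_comm hP hy hz).mpr h)⟩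

variable {d : G} {N A n : ℕ}

theorem ncard_off (hL : LocPar D d N A n) {b : G} (hb : b ∈ perp D d) :
    {y | y ∈ perp D d ∧ ¬ Commute b y}.ncard + 1 + A = N := by
  have hu : perp D d = insert b (perp₂ D d b) ∪ {y | y ∈ perp D d ∧ ¬ Commute b y} := by
    ext y
    constructor
    · intro hy
      by_cases h1 : y = b
      · exact Or.inl (Or.inl h1)
      by_cases h2 : Commute b y
      · exact Or.inl (Or.inr ⟨hy, hy.1, h1, h2⟩)
      · exact Or.inr ⟨hy, h2⟩
    · rintro ((rfl | hy) | hy)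
      · exact hb
      · exact hy.1
      · exact hy.1
  have h' := congrArg Set.ncard hu
  rw [hL.perp_card, Set.ncard_union_eq ?_, Set.ncard_insert_of_notMem (fun hh => hh.2.2.1 rfl),
    hL.edge_card b hb] at h'
  · omega
  · rw [Set.disjoint_left]
    rintro y (rfl | hy) hy'
    · exact hy'.2 (Commute.refl y)
    · exact hy'.2 hy.2.2.2

theorem succ_lt (hL : LocPar D d N A n) : A + 1 < N := by
  obtain ⟨b, hb, c, hc, hbc⟩ := hL.noncomm
  have h1 := ncard_off hL hb
  have h2 : 0 < {y | y ∈ perp D d ∧ ¬ Commute b y}.ncard :=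
    (Set.ncard_pos (Set.toFinite _)).mpr ⟨c, hc, hbc⟩
  omega

theorem trace_nonempty (hP : Prim D) (hd : d ∈ D) (hL : LocPar D d N A n) {c : G} (hc : c ∈ far D d) :
    (perp₂ D d c).Nonempty := by
  obtain ⟨b, hb, -⟩ := hL.noncomm
  have h := hP.far_count hd hc hb
  rw [hL.perp_card, hL.edge_card b hb] at h
  refine Set.nonempty_of_ncard_ne_zero fun h0 => ?_
  rw [h0, mul_zero, zero_add] at h
  have := succ_lt hL
  have : A + 1 = N := Nat.eq_of_mul_eq_mul_left (by omega) h
  omega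

/-- inside a trace, the neighbours of a member are a trace one level down -/
theorem trace_nbr (hP : Prim D) (hd : d ∈ D) (hL : LocPar D d N A n) {a x p : G} (ha : a ∈ D)
    (hx : x ∈ far D a) (hp : p ∈ perp₂ D a x) :
    {y | y ∈ perp₂ D a x ∧ y ≠ p ∧ Commute p y}.ncard = n := by
  obtain ⟨g, hg⟩ := hP.hprim.1 p hp.1.1 d hd
  have hcj : ∀ u, g * u * g⁻¹ ∈ perp D d ↔ u ∈ perp D p := fun u => by
    rw [← hg]; exact conj_mem_perp_iff hP.hD g p u
  have hap : a ∈ perp D p := ⟨ha, fun e => hp.1.2.1 e.symm, hp.1.2.2.symm⟩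
  have hxp : x ∈ perp D p := ⟨hx.1, fun e => hp.2.2.1 e.symm, hp.2.2.2.symm⟩
  have hset : (fun y => g * y * g⁻¹) '' {y | y ∈ perp₂ D a x ∧ y ≠ p ∧ Commute p y} =
      {y | y ∈ perp D d ∧ (Commute (g * a * g⁻¹) y ∧ Commute (g * x * g⁻¹) y)} := by
    ext z
    constructor
    · rintro ⟨y, ⟨hy, hyp, hc⟩, rfl⟩
      exact ⟨(hcj y).mpr ⟨hy.1.1, hyp, hc⟩, (Commute.conj_iff g).2 hy.1.2.2, (Commute.conj_iff g).2 hy.2.2.2⟩
    · rintro ⟨hz, h1, h2⟩
      have hz' : g * (g⁻¹ * z * g) * g⁻¹ = z := by group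
      refine ⟨g⁻¹ * z * g, ?_, hz'⟩
      rw [← hz', hcj] at hz
      rw [← hz', Commute.conj_iff] at h1 h2
      exact ⟨⟨⟨hz.1, fun e => hx.2 (e ▸ h2).symm, h1⟩, hz.1, fun e => hx.2 (e ▸ h1), h2⟩, hz.2.1, hz.2.2⟩
  rw [← hL.trace_card _ ((hcj a).mpr hap) _ ((hcj x).mpr hxp) (fun h => hx.2 ((Commute.conj_iff g).1 h)),
    ← hset, Set.ncard_image_of_injective _ fun u v h => by simpa using h]

/-- a finite set with a fixed-point-free involution is even -/
theorem even_ncard {α : Type*} [Finite α] {s : Set α} (g : α → α) (hmem : ∀ y ∈ s, g y ∈ s)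
    (hinv : ∀ y ∈ s, g (g y) = y) (hne : ∀ y ∈ s, g y ≠ y) : Even s.ncard := by
  classical
  rw [Set.ncard_eq_toFinset_card s, ← ZMod.natCast_eq_zero_iff_even, Finset.card_eq_sum_ones,
    Nat.cast_sum, Nat.cast_one]
  refine Finset.sum_involution (fun y _ => g y) (fun _ _ => by decide) ?_ ?_ ?_
  · exact fun y hy _ => hne y (by simpa using hy)
  · exact fun y hy => by simpa using hmem y (by simpa using hy)
  · exact fun y hy => hinv y (by simpa using hy)

/-- a trace is closed under lines: parity and bounds -/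
theorem trace_shape (hP : Prim D) (hd : d ∈ D) (hL : LocPar D d N A n) {c : G} (hc : c ∈ far D d) :
    ∃ h : ℕ, (perp₂ D d c).ncard = n + 1 + 2 * h ∧ 2 * h + 1 + A ≤ N ∧ (perp₂ D d c).ncard ≤ N := by
  obtain ⟨p, hp⟩ := trace_nonempty hP hd hL hc
  set M : Set G := {y | y ∈ perp₂ D d c ∧ ¬ Commute p y}
  have hMeven : Even M.ncard := by
    refine even_ncard (fun y => p * y * p) ?_ ?_ ?_
    · rintro y ⟨hy, hpy⟩
      refine ⟨(perp₂_closed hP.hD d c).2 p hp y hy, fun h => hpy ?_⟩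
      have h' := (conj_comm_iff hP.hD.1 hp.1.1).mpr h
      rwa [conj_fix_of_commute hP.hD.1 hp.1.1 (Commute.refl p), conj_self_inv hP.hD.1 hp.1.1] at h'
    · exact fun y _ => conj_self_inv hP.hD.1 hp.1.1 y
    · rintro y ⟨hy, hpy⟩ h
      refine hpy ?_
      show p * y = y * p
      conv_lhs => rw [← h]
      rw [← mul_assoc, ← mul_assoc, hP.sq hp.1.1, one_mul]
  have hu : perp₂ D d c = insert p {y | y ∈ perp₂ D d c ∧ y ≠ p ∧ Commute p y} ∪ M := by
    ext y
    constructor
    · intro hy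
      by_cases h1 : y = p
      · exact Or.inl (Or.inl h1)
      by_cases h2 : Commute p y
      · exact Or.inl (Or.inr ⟨hy, h1, h2⟩)
      · exact Or.inr ⟨hy, h2⟩
    · rintro ((rfl | hy) | hy)
      · exact hp
      · exact hy.1
      · exact hy.1
  have h' := congrArg Set.ncard hu
  rw [Set.ncard_union_eq ?_, Set.ncard_insert_of_notMem (fun hh => hh.2.1 rfl),
    trace_nbr hP hd hL hd hc hp] at h'
  · obtain ⟨h, hh⟩ := hMeven
    refine ⟨h, by omega, ?_, ?_⟩
    · have hsub : M ⊆ {y | y ∈ perp D d ∧ ¬ Commute p y} := fun y hy => ⟨hy.1.1, hy.2⟩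
      have := Set.ncard_le_ncard hsub (Set.toFinite _)
      have := ncard_off hL hp.1
      omega
    · rw [← hL.perp_card]
      exact Set.ncard_le_ncard (fun y hy => hy.1) (Set.toFinite _)
  · rw [Set.disjoint_left]
    rintro y (rfl | hy) hy'
    · exact hy'.2 (Commute.refl y)
    · exact hy'.2 hy.2.2

/-- the arithmetic conditions on the trace size -/
theorem fits (hP : Prim D) (hd : d ∈ D) (hL : LocPar D d N A n) {c : G} (hc : c ∈ far D d) :
    Arith.Fits N A n (perp₂ D d c).ncard (far D d).ncard := by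
  classical
  obtain ⟨h, hμ, hh, hμN⟩ := trace_shape hP hd hL hc
  obtain ⟨b, hb, -⟩ := hL.noncomm
  have hcount := hP.far_count hd hc hb
  rw [hL.perp_card, hL.edge_card b hb] at hcount
  set μ := (perp₂ D d c).ncard with hμdef
  refine ⟨⟨h, hμ, hh⟩, hμN, by linarith, ?_⟩
  haveI : Fintype ↥D := Fintype.ofFinite _
  let R : ↥D → ↥D → Prop := fun u v => (v : G) ∈ perp D u
  have hcard : ∀ (u : ↥D) (P' : G → Prop), ((Finset.univ : Finset ↥D).filter fun z => R u z ∧ P' z).card =
      {y | y ∈ perp D (u : G) ∧ P' y}.ncard := by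
    intro u P'
    rw [← Set.ncard_coe_finset]
    refine Set.ncard_congr (fun z _ => (z : G)) ?_ ?_ ?_
    · intro z hz; exact (Finset.mem_filter.mp hz).2
    · exact fun z w _ _ hzw => Subtype.ext hzw
    · exact fun y hy => ⟨⟨y, hy.1.1⟩, Finset.mem_filter.mpr ⟨Finset.mem_univ _, hy⟩, rfl⟩
  have hsrg : Srg R N A μ := by
    refine ⟨fun u v huv => ⟨u.2, fun e => huv.2.1 e.symm, huv.2.2.symm⟩, fun u hu => hu.2.1 rfl, ?_, ?_, ?_⟩
    · intro u
      have := hcard u (fun _ => True)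
      simp only [and_true, Set.ofPred_mem_eq] at this
      rw [this, hP.perp_ncard u.2 hd, hL.perp_card]
    · intro u v huv
      convert (hcard u (fun z => z ∈ perp D (v : G))).trans
        ((hP.edge_ncard u.2 huv hd hb).trans (hL.edge_card b hb)) using 3
    · intro u v hne huv
      have hnc : ¬ Commute (u : G) v := fun hc' => huv ⟨v.2, fun e => hne (Subtype.ext e.symm), hc'⟩
      convert (hcard u (fun z => z ∈ perp D (v : G))).trans
        (hP.trace_ncard u.2 ⟨v.2, hnc⟩ hd hc) using 3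
  have hu : D = insert d (perp D d) ∪ far D d := by
    ext y
    constructor
    · intro hy
      rcases hP.mem_cases (a := d) hy with rfl | h | h
      · exact Or.inl (Or.inl rfl)
      · exact Or.inl (Or.inr h)
      · exact Or.inr h
    · rintro ((rfl | hy) | hy)
      · exact hd
      · exact hy.1
      · exact hy.1
  have hv : (Fintype.card ↥D : ℤ) = 1 + N + (far D d).ncard := by
    rw [← Nat.card_eq_fintype_card, Nat.card_coe_set_eq]
    conv_lhs => rw [hu]
    rw [Set.ncard_union_eq ?_, Set.ncard_insert_of_notMem (fun hh => hh.2.1 rfl), hL.perp_card]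
    · push_cast; ring
    · rw [Set.disjoint_left]
      rintro y (rfl | hy) hy'
      · exact hy'.2 (Commute.refl y)
      · exact hy'.2 hy.2.2
  have hAN := succ_lt hL
  have hΔ : 0 < ((A : ℤ) - μ) ^ 2 + 4 * ((N : ℤ) - μ) := by
    have : ((A : ℤ) - μ) ^ 2 + 4 * ((N : ℤ) - μ) =
        ((μ : ℤ) - A - 2) ^ 2 + 4 * ((N : ℤ) - 1 - A) := by ring
    rw [this]
    nlinarith [sq_nonneg ((μ : ℤ) - A - 2)]
  have hint := hsrg.integral ⟨d, hd⟩ hΔ
  rw [hv] at hint
  simpa [add_sub_cancel_left, add_assoc] using hint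

end Cfsg.Agent.Lib.FischerThm.G
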