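import Cfsg.Agent.Lib.FischerThm.G.Symp
import Cfsg.Agent.Lib.FischerThm.G.Models
import Cfsg.Agent.Lib.FischerThm.D.Node

/-!
# Node G1

Owner: helper42.
-/

set_option autoImplicit false

namespace Cfsg.Agent.Lib.FischerThm.G

universe u

theorem nodeG1 : NodeG1.{u} := by
  intro G _ _ D _ hP hL hpl d hd hs
  obtain ⟨hE, -⟩ := FischerThm.D.nodeD G D hP hL d hd
  exact symp_core hP hd hE (noPlane_inSymp hE.hD hs) hpl

end Cfsg.Agent.Lib.FischerThm.G
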