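import Cfsg.Agent.Lib.FischerThm.G.Num

/-!
# Node G: a plane above a local class without planes

Then some line of the local class avoids a trace, every trace member commutes with exactly one of its
three members, and the trace is small.

Owner: helper42.
-/

set_option autoImplicit false
set_option linter.style.haveILetI false
set_option linter.unusedSectionVars false

namespace Cfsg.Agent.Lib.FischerThm.G

open Cfsg Cfsg.Agent.Lib.FischerMTypes.Primitive Cfsg.Agent.Lib.FischerMTypes.Basic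

universe u

variable {G : Type u} [Group G] [Finite G] {D : Set G}

/-- no plane among the members commuting with one member -/
theorem local_third (hP : Prim D) {d : G} (hd : d ∈ D) (hnp : NoPlane (perpClass D d)) {p a x y : G}
    (hp : p ∈ D) (ha : a ∈ perp D p) (hx : x ∈ perp D p) (hy : y ∈ perp D p) (hax : ¬ Commute a x)
    (hay : ¬ Commute a y) (hxy : ¬ Commute x y) : Commute a (x * y * x) := by
  obtain ⟨g, hg⟩ := hP.hprim.1 p hp d hd
  set c : G → G := fun u => g * u * g⁻¹ with hc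
  have hcm : ∀ u, u ∈ perp D p → c u ∈ perp D d := fun u hu => by
    rw [← hg]; exact (conj_mem_perp_iff hP.hD g p u).mpr hu
  have hcc : ∀ u v, Commute (c u) (c v) ↔ Commute u v := fun u v => Commute.conj_iff g
  by_contra haz
  have hz : x * y * x ∈ perp D p := (perp_closed hP.hD p).2 x hx y hy
  have hnc : ∀ u v, u ∈ perp D p → v ∈ perp D p → ¬ Commute u v →
      ¬ Commute (im D d (c u)) (im D d (c v)) := fun u v hu hv h h' =>
    h ((hcc u v).mp ((im_comm hP (hcm u hu) (hcm v hv)).mp h'))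
  refine hnc a (x * y * x) ha hz haz ?_
  have e : im D d (c (x * y * x)) = im D d (c x) * im D d (c y) * im D d (c x) := by
    rw [show c (x * y * x) = c x * c y * c x by simp [hc, mul_assoc]]
    exact im_conj (hcm x hx) (hcm y hy)
  rw [e]
  refine hnp _ (im_mem (hcm x hx)) _ (im_mem (hcm y hy)) _ (im_mem (hcm a ha)) (hnc x y hx hy hxy)
    (hnc x a hx ha fun h => hax h.symm) (hnc y a hy ha fun h => hay h.symm) ?_
  rw [← e]
  intro h
  exact haz (by
    have := im_inj hP hd (hcm a ha) (hcm _ hz) h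
    simp only [hc, mul_left_inj, mul_right_inj] at this
    rw [this])

variable {d : G} {N A n : ℕ}

/-- a line of the local class avoiding a trace -/
theorem exists_outside (hP : Prim D) (hd : d ∈ D) (hL : LocPar D d N A n)
    (hnp : NoPlane (perpClass D d)) (hpl : ¬ NoPlane D) :
    ∃ c ∈ far D d, ∃ x ∈ perp D d, ∃ y ∈ perp D d, ¬ Commute x y ∧ ¬ Commute c x ∧ ¬ Commute c y ∧
      ¬ Commute c (x * y * x) := by
  obtain ⟨x, hx, y, hy, a, ha, hxy, hxa, hya, -, haz⟩ :
      ∃ x ∈ D, ∃ y ∈ D, ∃ a ∈ D, ¬ Commute x y ∧ ¬ Commute x a ∧ ¬ Commute y a ∧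
        a ≠ x * y * x ∧ ¬ Commute a (x * y * x) := by
    by_contra hcon
    refine hpl fun x hx y hy a ha h1 h2 h3 h4 => ?_
    by_contra h5
    exact hcon ⟨x, hx, y, hy, a, ha, h1, h2, h3, h4, h5⟩
  -- a common neighbour of the line
  have hne : (perp₂ D x y).Nonempty := by
    obtain ⟨g', hg'⟩ := hP.hprim.1 x hx d hd
    have hfar : g' * y * g'⁻¹ ∈ far D d := ⟨hP.hD.2.1 g' y hy, fun h => hxy ((Commute.conj_iff g').1 (by
      rwa [← hg'] at h))⟩
    obtain ⟨p, hp⟩ := trace_nonempty hP hd hL hfar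
    rw [← hg', ← hP.perp₂_image] at hp
    obtain ⟨p', hp', -⟩ := hp
    exact ⟨p', hp'⟩
  obtain ⟨p, hp⟩ := hne
  have hxp : x ∈ perp D p := ⟨hx, fun e => hp.1.2.1 e.symm, hp.1.2.2.symm⟩
  have hyp : y ∈ perp D p := ⟨hy, fun e => hp.2.2.1 e.symm, hp.2.2.2.symm⟩
  have hpa : ¬ Commute p a := by
    intro h
    have hap : a ∈ perp D p := ⟨ha, fun e => hxa (e ▸ hxp.2.2.symm), h⟩
    exact haz (local_third hP hd hnp hp.1.1 hap hxp hyp (fun h => hxa h.symm) (fun h => hya h.symm) hxy)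
  obtain ⟨g', hg'⟩ := hP.hprim.1 p hp.1.1 d hd
  have hcm : ∀ u, u ∈ perp D p → g' * u * g'⁻¹ ∈ perp D d := fun u hu => by
    rw [← hg']; exact (conj_mem_perp_iff hP.hD g' p u).mpr hu
  refine ⟨g' * a * g'⁻¹, ⟨hP.hD.2.1 g' a ha, ?_⟩, g' * x * g'⁻¹, hcm x hxp, g' * y * g'⁻¹, hcm y hyp,
    fun h => hxy ((Commute.conj_iff g').1 h), fun h => hxa ((Commute.conj_iff g').1 h).symm,
    fun h => hya ((Commute.conj_iff g').1 h).symm, fun h => haz ?_⟩
  · intro h; rw [← hg'] at h; exact hpa ((Commute.conj_iff g').1 h)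
  · rw [show g' * x * g'⁻¹ * (g' * y * g'⁻¹) * (g' * x * g'⁻¹) = g' * (x * y * x) * g'⁻¹ by group] at h
    exact (Commute.conj_iff g').1 h

/-- the members of a trace not commuting with a member outside are at most half of all -/
theorem half_bound (hP : Prim D) (hd : d ∈ D) (hL : LocPar D d N A n) {c f : G} (hc : c ∈ far D d)
    (hf : f ∈ perp D d) (hcf : ¬ Commute c f) :
    2 * {s | s ∈ perp₂ D d c ∧ ¬ Commute f s}.ncard + 1 + A ≤ N := by
  set M := {s | s ∈ perp₂ D d c ∧ ¬ Commute f s}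
  have hinj : Set.InjOn (fun s => f * s * f) M := fun s _ t _ h => by simpa using h
  have hsub : M ∪ (fun s => f * s * f) '' M ⊆ {y | y ∈ perp D d ∧ ¬ Commute f y} := by
    rintro y (⟨hy, hfy⟩ | ⟨s, ⟨hs, hfs⟩, rfl⟩)
    · exact ⟨hy.1, hfy⟩
    · refine ⟨(perp_closed hP.hD d).2 f hf s hs.1, fun h => hfs ?_⟩
      have h' := (conj_comm_iff hP.hD.1 hf.1).mpr h
      rwa [conj_fix_of_commute hP.hD.1 hf.1 (Commute.refl f), conj_self_inv hP.hD.1 hf.1] at h'
  have hdis : Disjoint M ((fun s => f * s * f) '' M) := by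
    rw [Set.disjoint_left]
    rintro y ⟨hy, -⟩ ⟨s, ⟨hs, hfs⟩, rfl⟩
    refine hcf ?_
    have e : s * (f * s * f) * s = f := by
      rw [braid hP.hD.1 hf.1 hs.1.1 hfs, conj_self_inv hP.hD.1 hs.1.1]
    rw [← e]
    exact (hs.2.2.2.mul_right hy.2.2.2).mul_right hs.2.2.2
  have h1 := Set.ncard_le_ncard hsub (Set.toFinite _)
  rw [Set.ncard_union_eq hdis, Set.InjOn.ncard_image hinj] at h1
  have := ncard_off hL hf
  omega

/-- the trace is small -/
theorem trace_bound (hP : Prim D) (hd : d ∈ D) (hL : LocPar D d N A n)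
    (hnp : NoPlane (perpClass D d)) (hpl : ¬ NoPlane D) :
    ∃ c ∈ far D d, 4 * (perp₂ D d c).ncard + 3 * (1 + A) ≤ 3 * N := by
  obtain ⟨c, hc, x, hx, y, hy, hxy, hcx, hcy, hcz⟩ := exists_outside hP hd hL hnp hpl
  refine ⟨c, hc, ?_⟩
  set z := x * y * x with hzdef
  have hz : z ∈ perp D d := (perp_closed hP.hD d).2 x hx y hy
  have hone : ∀ s ∈ perp₂ D d c, (¬ Commute x s ∧ ¬ Commute y s ∧ Commute z s) ∨
      (¬ Commute x s ∧ Commute y s ∧ ¬ Commute z s) ∨ (Commute x s ∧ ¬ Commute y s ∧ ¬ Commute z s) := by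
    intro s hs
    have hcs : c ∈ perp D s := ⟨hc.1, fun e => hs.2.2.1 e.symm, hs.2.2.2.symm⟩
    have two : ∀ u v, u ∈ perp D d → v ∈ perp D d → ¬ Commute c u → ¬ Commute c v → ¬ Commute u v →
        ¬ Commute c (u * v * u) → Commute u s → Commute v s → False := by
      intro u v hu hv h1 h2 h3 h4 h5 h6
      have hus : u ∈ perp D s := ⟨hu.1, fun e => h1 (e ▸ hcs.2.2.symm), h5.symm⟩
      have hvs : v ∈ perp D s := ⟨hv.1, fun e => h2 (e ▸ hcs.2.2.symm), h6.symm⟩
      exact h4 (local_third hP hd hnp hs.1.1 hcs hus hvs h1 h2 h3)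
    have hxz : ¬ Commute x z := fun h => hxy (by
      have h' := (conj_comm_iff hP.hD.1 hx.1).mpr h
      rwa [hzdef, conj_fix_of_commute hP.hD.1 hx.1 (Commute.refl x), conj_self_inv hP.hD.1 hx.1] at h')
    have hzy : x * z * x = y := conj_self_inv hP.hD.1 hx.1 y
    have hyxy : y * x * y = z := (braid hP.hD.1 hx.1 hy.1 hxy).symm
    have hzxy : y * z * y = x := by rw [← hyxy]; exact conj_self_inv hP.hD.1 hy.1 x
    have hyz : ¬ Commute y z := fun h => hxy (by
      have h' := (conj_comm_iff hP.hD.1 hy.1).mpr h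
      rw [conj_fix_of_commute hP.hD.1 hy.1 (Commute.refl y), hzxy] at h'
      exact h'.symm)
    have n1 : ¬ (Commute x s ∧ Commute y s) := fun h => two x y hx hy hcx hcy hxy hcz h.1 h.2
    have n2 : ¬ (Commute x s ∧ Commute z s) := fun h => two x z hx hz hcx hcz hxz (hzy ▸ hcy) h.1 h.2
    have n3 : ¬ (Commute y s ∧ Commute z s) := fun h => two y z hy hz hcy hcz hyz (hzxy ▸ hcx) h.1 h.2
    have n4 : Commute x s ∨ Commute y s ∨ Commute z s := by
      by_contra h
      push Not at h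
      exact h.2.2 (local_third hP hd hnp hd hs.1 hx hy (fun e => h.1 e.symm) (fun e => h.2.1 e.symm) hxy).symm
    tauto
  have hb1 := half_bound hP hd hL hc hx hcx
  have hb2 := half_bound hP hd hL hc hy hcy
  have hb3 := half_bound hP hd hL hc hz hcz
  classical
  set T := (Set.toFinite (perp₂ D d c)).toFinset with hT
  have hTm : ∀ s, s ∈ T ↔ s ∈ perp₂ D d c := fun s => Set.Finite.mem_toFinset _
  have hcf : ∀ f, {s | s ∈ perp₂ D d c ∧ ¬ Commute f s}.ncard = ∑ s ∈ T, if ¬ Commute f s then 1 else 0 := by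
    intro f
    rw [Finset.sum_boole, Nat.cast_id, ← Set.ncard_coe_finset]
    congr 1
    ext s
    simp [hTm s]
  have hsum : {s | s ∈ perp₂ D d c ∧ ¬ Commute x s}.ncard + {s | s ∈ perp₂ D d c ∧ ¬ Commute y s}.ncard +
      {s | s ∈ perp₂ D d c ∧ ¬ Commute z s}.ncard = 2 * (perp₂ D d c).ncard := by
    rw [hcf, hcf, hcf, ← Finset.sum_add_distrib, ← Finset.sum_add_distrib,
      Set.ncard_eq_toFinset_card (perp₂ D d c) (Set.toFinite _), ← hT, Finset.card_eq_sum_ones, Finset.mul_sum]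
    refine Finset.sum_congr rfl fun s hs => ?_
    rcases hone s ((hTm s).mp hs) with ⟨a, b, e⟩ | ⟨a, b, e⟩ | ⟨a, b, e⟩ <;> simp [a, b, e]
  omega

/-- a trace of four members in which each commutes with one other does not exist -/
theorem trace_ne_four (hP : Prim D) (hd : d ∈ D) (hL : LocPar D d N A 1) {c : G} (hc : c ∈ far D d) :
    (perp₂ D d c).ncard ≠ 4 := by
  intro h4
  obtain ⟨p, hp⟩ := trace_nonempty hP hd hL hc
  set T := perp₂ D d c with hT
  have hnbr : ∀ s ∈ T, {y | y ∈ T ∧ y ≠ s ∧ Commute s y}.ncard = 1 := fun s hs =>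
    trace_nbr hP hd hL hd hc hs
  obtain ⟨q, hq⟩ := Set.ncard_eq_one.mp (hnbr p hp)
  have hq' : q ∈ T ∧ q ≠ p ∧ Commute p q := (Set.ext_iff.1 hq q).2 rfl
  -- a member outside the edge
  obtain ⟨r, hr, hr'⟩ : ∃ r ∈ T, r ∉ ({p, q} : Set G) := by
    refine Set.exists_mem_notMem_of_ncard_lt_ncard (lt_of_le_of_lt ?_ (h4.symm ▸ (by norm_num : 2 < 4)))
      (Set.toFinite _)
    exact (Set.ncard_insert_le _ _).trans (by simp)
  simp only [Set.mem_insert_iff, Set.mem_singleton_iff, not_or] at hr'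
  have hpr : ¬ Commute p r := fun h => hr'.2 ((Set.ext_iff.1 hq r).1 ⟨hr, hr'.1, h⟩)
  have hr2 : p * r * p ∈ T := (perp₂_closed hP.hD d c).2 p hp r hr
  have hpr2 : ¬ Commute p (p * r * p) := fun h => hpr (by
    have h' := (conj_comm_iff hP.hD.1 hp.1.1).mpr h
    rwa [conj_fix_of_commute hP.hD.1 hp.1.1 (Commute.refl p), conj_self_inv hP.hD.1 hp.1.1] at h')
  have hne1 : p * r * p ≠ p := fun e => hpr2 (by rw [e])
  have hne2 : p * r * p ≠ q := fun e => hpr2 (by rw [e]; exact hq'.2.2)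
  have hne3 : p * r * p ≠ r := fun e => hpr (by
    show p * r = r * p
    conv_lhs => rw [← e]
    rw [← mul_assoc, ← mul_assoc, hP.sq hp.1.1, one_mul])
  have hall : T = {p, q, r, p * r * p} := by
    refine (Set.eq_of_subset_of_ncard_le ?_ ?_ (Set.toFinite _)).symm
    · rintro u (rfl | rfl | rfl | rfl) <;> [exact hp; exact hq'.1; exact hr; exact hr2]
    · have : ({p, q, r, p * r * p} : Set G).ncard = 4 := by
        rw [Set.ncard_insert_of_notMem, Set.ncard_insert_of_notMem, Set.ncard_pair hne3.symm] <;>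
          simp [hq'.2.1.symm, hr'.1, hr'.2, hne1.symm, hne2.symm, Ne.symm hr'.1, Ne.symm hr'.2]
      omega
  -- the neighbour of a member outside the edge is `q`
  have key : ∀ w ∈ T, w ≠ p → w ≠ q → ¬ Commute p w → ¬ Commute w (p * w * p) → Commute w q := by
    intro w hw hwp hwq hpw hww
    obtain ⟨v, hv⟩ := Set.ncard_eq_one.mp (hnbr w hw)
    obtain ⟨hvT, hvw, hwv⟩ : v ∈ T ∧ v ≠ w ∧ Commute w v := (Set.ext_iff.1 hv v).2 rfl
    have hmem : v ∈ ({p, q, r, p * r * p} : Set G) := hall ▸ hvT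
    have hwm : w ∈ ({p, q, r, p * r * p} : Set G) := hall ▸ hw
    simp only [Set.mem_insert_iff, Set.mem_singleton_iff] at hmem hwm
    rcases hmem with rfl | rfl | rfl | rfl
    · exact absurd hwv.symm hpw
    · exact hwv
    · rcases hwm with rfl | rfl | rfl | rfl
      · exact absurd rfl hwp
      · exact absurd rfl hwq
      · exact absurd rfl hvw
      · exact absurd (by rwa [conj_self_inv hP.hD.1 hp.1.1]) hww
    · rcases hwm with rfl | rfl | rfl | rfl
      · exact absurd rfl hwp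
      · exact absurd rfl hwq
      · exact absurd hwv hww
      · exact absurd rfl hvw
  have hrr : ¬ Commute r (p * r * p) := fun h => hpr (by
    have e : r * (p * r * p) * r = p := by
      rw [braid hP.hD.1 hp.1.1 hr.1.1 hpr, conj_self_inv hP.hD.1 hr.1.1]
    rw [← e]
    exact (((Commute.refl r).mul_right h).mul_right (Commute.refl r)).symm)
  have k1 := key r hr hr'.1 hr'.2 hpr hrr
  obtain ⟨v, hv⟩ := Set.ncard_eq_one.mp (hnbr q hq'.1)
  have e1 : p = v := (Set.ext_iff.1 hv p).1 ⟨hp, hq'.2.1.symm, hq'.2.2.symm⟩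
  have e2 : r = v := (Set.ext_iff.1 hv r).1 ⟨hr, hr'.2, k1.symm⟩
  exact hr'.1 (e2.trans e1.symm)

end Cfsg.Agent.Lib.FischerThm.G
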