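import Cfsg.Agent.Lib.FischerThm.G.Outside
import Cfsg.Agent.Lib.FischerThm.A.ModelOrth
import Cfsg.Agent.Lib.SympTypeF2x73.Main
import Cfsg.Agent.Lib.FischerImpossible42.ArithSmall

/-!
# Node G: a plane above a local class of symplectic type

The parameters of the local class come from its configuration; the trace bound then leaves only the
orthogonal class of minus type in dimension six.

Owner: helper42.
-/

set_option autoImplicit false
set_option linter.style.haveILetI false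
set_option linter.unusedSectionVars false

namespace Cfsg.Agent.Lib.FischerThm.G

open Cfsg Cfsg.Agent.Lib.FischerMTypes.Primitive Cfsg.Agent.Lib.SympTypeF2x73
  Cfsg.Agent.Lib.FischerImpossible42

universe u

variable {G : Type u} [Group G] [Finite G] {D : Set G} {d : G}

section Count

variable {V : Type u} [AddCommGroup V] [Module (ZMod 2) V] [Finite V]

theorem ncard_split (P : V → Prop) (f : V → ZMod 2) :
    {v | P v}.ncard = {v | P v ∧ f v = 0}.ncard + {v | P v ∧ f v = 1}.ncard := by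
  rw [← Set.ncard_union_eq]
  · congr 1
    ext v
    simp only [Set.mem_ofPred_eq, Set.mem_union]
    rcases z2_cases (f v) with h | h <;> simp [h]
  · rw [Set.disjoint_left]
    rintro v ⟨-, h⟩ ⟨-, h'⟩
    exact z2_one_ne_zero (h'.symm.trans h)

theorem ncard_shift (w : V) {P P' : V → Prop} (h : ∀ v, P' (v + w) ↔ P v) :
    {v | P v}.ncard = {v | P' v}.ncard :=
  Set.ncard_congr (fun v _ => v + w) (fun v hv => (h v).2 hv) (fun _ _ _ _ e => add_right_cancel e)
    fun v hv => ⟨v + w, (h (v + w)).1 (by rw [vadd_cancel]; exact hv), vadd_cancel v w⟩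

variable (C : Config V) {a b : V}

/-- the four classes with respect to an adjacent pair have equal size -/
theorem quarters (hab : C.B a b = 1) :
    Nat.card V = 4 * {v | C.B a v = 0 ∧ C.B b v = 0}.ncard ∧
      {v | C.B a v = 0}.ncard = 2 * {v | C.B a v = 0 ∧ C.B b v = 0}.ncard := by
  have hba : C.B b a = 1 := by rw [B_comm, hab]
  have k1 : {v | C.B a v = 0 ∧ C.B b v = 1}.ncard = {v | C.B a v = 0 ∧ C.B b v = 0}.ncard :=
    (ncard_shift a fun v => by
      simp only [map_add, C.alt, hba, add_zero]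
      generalize C.B a v = x, C.B b v = y
      revert x y; decide).symm
  have k2 : ∀ t, {v | C.B a v = 1 ∧ C.B b v = t}.ncard = {v | C.B a v = 0 ∧ C.B b v = t}.ncard :=
    fun t => (ncard_shift b fun v => by
      simp only [map_add, C.alt, hab, add_zero]
      generalize C.B a v = x, C.B b v = y
      revert x y t; decide).symm
  have h0 := ncard_split (fun v => C.B a v = 0) (fun v => C.B b v)
  have h1 := ncard_split (fun v => C.B a v = 1) (fun v => C.B b v)
  have h2 := ncard_split (fun _ => True) (fun v => C.B a v)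
  simp only [true_and, Set.ofPred_true, Set.ncard_univ] at h2
  rw [k2, k2] at h1
  constructor <;> omega

/-- forms with the same polar: the values one in the classes -/
theorem ones_classes (hab : C.B a b = 1) {q : V → ZMod 2} (hq : IsPolar C q) (ha : q a = 1) (hb : q b = 1) :
    ∃ n0, {v | C.B a v = 0 ∧ C.B b v = 0 ∧ q v = 1}.ncard + n0 =
        {v | C.B a v = 0 ∧ C.B b v = 0}.ncard ∧
      {v | q v = 1}.ncard = {v | C.B a v = 0 ∧ C.B b v = 0 ∧ q v = 1}.ncard + 3 * n0 ∧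
      {v | q v = 1 ∧ C.B a v = 0}.ncard = {v | C.B a v = 0 ∧ C.B b v = 0}.ncard := by
  have hba : C.B b a = 1 := by rw [B_comm, hab]
  refine ⟨{v | C.B a v = 0 ∧ C.B b v = 0 ∧ q v = 0}.ncard, ?_⟩
  have e0 := ncard_split (fun v => C.B a v = 0 ∧ C.B b v = 0) q
  simp only [and_assoc] at e0
  have j1 : {v | (q v = 1 ∧ C.B a v = 0) ∧ C.B b v = 1}.ncard =
      {v | C.B a v = 0 ∧ C.B b v = 0 ∧ q v = 0}.ncard :=
    (ncard_shift a fun v => by
      rw [hq v a, ha, B_comm C v a]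
      simp only [map_add, C.alt, hba, add_zero]
      generalize C.B a v = x, C.B b v = y, q v = z
      revert x y z; decide).symm
  have j2 : {v | (q v = 1 ∧ C.B a v = 1) ∧ C.B b v = 0}.ncard =
      {v | C.B a v = 0 ∧ C.B b v = 0 ∧ q v = 0}.ncard :=
    (ncard_shift b fun v => by
      rw [hq v b, hb, B_comm C v b]
      simp only [map_add, C.alt, hab, add_zero]
      generalize C.B a v = x, C.B b v = y, q v = z
      revert x y z; decide).symm
  have j3 : {v | (q v = 1 ∧ C.B a v = 1) ∧ C.B b v = 1}.ncard =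
      {v | C.B a v = 0 ∧ C.B b v = 0 ∧ q v = 0}.ncard :=
    (ncard_shift (a + b) fun v => by
      rw [hq v (a + b), hq a b, ha, hb, hab, map_add (C.B v) a b, B_comm C v a, B_comm C v b]
      simp only [map_add, C.alt, hab, hba, add_zero, zero_add]
      generalize C.B a v = x, C.B b v = y, q v = z
      revert x y z; decide).symm
  have j0 : {v | (q v = 1 ∧ C.B a v = 0) ∧ C.B b v = 0}.ncard =
      {v | C.B a v = 0 ∧ C.B b v = 0 ∧ q v = 1}.ncard := by
    congr 1; ext v; simp only [Set.mem_ofPred_eq]; tauto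
  have e1 := ncard_split (fun v => q v = 1 ∧ C.B a v = 0) (fun v => C.B b v)
  have e2 := ncard_split (fun v => q v = 1 ∧ C.B a v = 1) (fun v => C.B b v)
  have e3 := ncard_split (fun v => q v = 1) (fun v => C.B a v)
  rw [j0, j1] at e1
  rw [j2, j3] at e2
  exact ⟨by omega, by omega, by omega⟩

end Count

section Pairs

variable {V : Type u} [AddCommGroup V] {n : ℕ} {x : Fin n → V}

/-- the number of pair sums outside a set of indices -/
theorem ncard_pairs
    (hd : ∀ i j k l, i ≠ j → k ≠ l → x i + x j = x k + x l → (i = k ∧ j = l) ∨ (i = l ∧ j = k))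
    (S : Finset (Fin n)) :
    {v | ∃ k l, k ∉ S ∧ l ∉ S ∧ k ≠ l ∧ v = x k + x l}.ncard = (n - S.card).choose 2 := by
  classical
  have hset : {v | ∃ k l, k ∉ S ∧ l ∉ S ∧ k ≠ l ∧ v = x k + x l} =
      (fun s => ∑ i ∈ s, x i) '' ↑(Sᶜ.powersetCard 2) := by
    ext v
    constructor
    · rintro ⟨k, l, hk, hl, hkl, rfl⟩
      refine ⟨{k, l}, ?_, Finset.sum_pair hkl⟩
      simp [Finset.mem_powersetCard, Finset.insert_subset_iff, hk, hl, Finset.card_pair hkl]
    · rintro ⟨s, hs, rfl⟩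
      obtain ⟨h1, h2⟩ := Finset.mem_powersetCard.1 hs
      obtain ⟨k, l, hkl, rfl⟩ := Finset.card_eq_two.1 h2
      exact ⟨k, l, Finset.mem_compl.1 (h1 (by simp)), Finset.mem_compl.1 (h1 (by simp)), hkl,
        Finset.sum_pair hkl⟩
  rw [hset, Set.InjOn.ncard_image, Set.ncard_coe_finset, Finset.card_powersetCard, Finset.card_compl,
    Fintype.card_fin]
  intro s hs t ht e
  obtain ⟨i, j, hij, rfl⟩ := Finset.card_eq_two.1 (Finset.mem_powersetCard.1 hs).2
  obtain ⟨k, l, hkl, rfl⟩ := Finset.card_eq_two.1 (Finset.mem_powersetCard.1 ht).2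
  simp only [Finset.sum_pair hij, Finset.sum_pair hkl] at e
  rcases hd i j k l hij hkl e with ⟨rfl, rfl⟩ | ⟨rfl, rfl⟩
  · rfl
  · exact Finset.pair_comm _ _

end Pairs

variable {V : Type u} [AddCommGroup V] [Module (ZMod 2) V] [Finite V]

/-- the local parameters from a configuration -/
theorem locPar_emb (hP : Prim D) (hd : d ∈ D) (hE : Prim (perpClass D d)) (e : A.Emb (perpClass D d) V)
    {v w : V} (hv : v ∈ e.C.D) (hw : w ∈ e.C.D) (hvw : e.C.B v w = 1) :
    LocPar D d e.C.D.ncard {u | u ∈ e.C.D ∧ u ≠ v ∧ e.C.B v u = 0}.ncard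
      {u | u ∈ e.C.D ∧ e.C.B v u = 0 ∧ e.C.B w u = 0}.ncard := by
  obtain ⟨a, ha, rfl⟩ : v ∈ e.iota '' perpClass D d := e.image.symm ▸ hv
  obtain ⟨b, hb, rfl⟩ : w ∈ e.iota '' perpClass D d := e.image.symm ▸ hw
  have hmem : ∀ y ∈ perpClass D d, e.iota y ∈ e.C.D := fun y hy => e.image ▸ ⟨y, hy, rfl⟩
  have hc : ∀ x ∈ perpClass D d, ∀ y ∈ perpClass D d, Commute x y ↔ e.C.B (e.iota x) (e.iota y) = 0 := by
    intro x hx y hy
    rcases z2_cases (e.C.B (e.iota x) (e.iota y)) with h | h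
    · refine ⟨fun _ => h, fun _ => ?_⟩
      by_contra hn
      exact z2_one_ne_zero (((e.adj x hx y hy).2 hn).symm.trans h)
    · exact ⟨fun hxy => absurd hxy ((e.adj x hx y hy).1 h), fun h' => absurd (h.symm.trans h') z2_one_ne_zero⟩
  have hab := (e.adj a ha b hb).1 hvw
  refine locPar_of hP hd hE ha hb hab ?_ ?_ ?_
  · rw [← e.image, Set.InjOn.ncard_image fun x hx y hy => e.inj x hx y hy]
  · refine Set.ncard_congr (fun y _ => e.iota y) ?_ ?_ ?_
    · rintro y ⟨hy, hne, hay⟩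
      exact ⟨hmem y hy, fun h => hne (e.inj y hy a ha h), (hc a ha y hy).1 hay⟩
    · exact fun x y hx hy => e.inj x hx.1 y hy.1
    · rintro u ⟨hu, hne, hB⟩
      rw [← e.image] at hu
      obtain ⟨y, hy, rfl⟩ := hu
      exact ⟨y, ⟨hy, fun h => hne (h ▸ rfl), (hc a ha y hy).2 hB⟩, rfl⟩
  · refine Set.ncard_congr (fun y _ => e.iota y) ?_ ?_ ?_
    · rintro y ⟨⟨hy, -, hay⟩, -, -, hby⟩
      exact ⟨hmem y hy, (hc a ha y hy).1 hay, (hc b hb y hy).1 hby⟩
    · exact fun x y hx hy => e.inj x hx.1.1 y hy.1.1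
    · rintro u ⟨hu, h1, h2⟩
      rw [← e.image] at hu
      obtain ⟨y, hy, rfl⟩ := hu
      have h1' := (hc a ha y hy).2 h1
      have h2' := (hc b hb y hy).2 h2
      exact ⟨y, ⟨⟨hy, fun h => hab (h ▸ h2').symm, h1'⟩, hy, fun h => hab (h ▸ h1'), h2'⟩, rfl⟩

/-- an orthogonal pair sum through an end of a pair is that pair -/
theorem pair_end {C : Config V} {n : ℕ} {x : Fin n → V} (hst : IsStar C x) {p q k l : Fin n} (hpq : p ≠ q)
    (hkl : k ≠ l) (h : C.B (x p + x q) (x k + x l) = 0) :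
    (k = p → l = q) ∧ (k = q → l = p) ∧ (l = p → k = q) ∧ (l = q → k = p) := by
  have key : ∀ p q k l : Fin n, p ≠ q → k ≠ l → C.B (x p + x q) (x k + x l) = 0 → k = p → l = q := by
    rintro p q k l hpq hkl h rfl
    by_contra hlq
    rw [star_B_one hst hpq hkl (Ne.symm hlq)] at h
    exact z2_one_ne_zero h
  refine ⟨key p q k l hpq hkl h, key q p k l hpq.symm hkl (by rwa [add_comm (x q)]),
    key p q l k hpq hkl.symm (by rwa [add_comm (x l)]),
    key q p l k hpq.symm hkl.symm (by rwa [add_comm (x l), add_comm (x q)])⟩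

/-- no plane above a local class of symmetric type -/
theorem not_symType (hP : Prim D) (hd : d ∈ D) (hE : Prim (perpClass D d)) (hnp : NoPlane (perpClass D d))
    (hpl : ¬ NoPlane D) (e : A.Emb (perpClass D d) V) (hs : IsSymType e.C) : False := by
  obtain ⟨n, x, hn, hst, hinj, hD⟩ := hs
  let p : Fin n := ⟨0, by omega⟩
  let q : Fin n := ⟨1, by omega⟩
  let r : Fin n := ⟨2, by omega⟩
  have hpq : p ≠ q := by simp [p, q]
  have hpr : p ≠ r := by simp [p, r]
  have hqr : q ≠ r := by simp [q, r]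
  have hL := locPar_emb hP hd hE e (hst.1 p q hpq) (hst.1 p r hpr) (star_B_one hst hpq hpr hqr)
  have hpairs := ncard_pairs (x := x) hinj
  have hN : e.C.D.ncard = n.choose 2 := by
    rw [hD]
    convert hpairs ∅ using 2 with v <;> simp
  have hA : {u | u ∈ e.C.D ∧ u ≠ x p + x q ∧ e.C.B (x p + x q) u = 0}.ncard = (n - 2).choose 2 := by
    rw [show n - 2 = n - ({p, q} : Finset (Fin n)).card by rw [Finset.card_pair hpq], ← hpairs]
    congr 1
    ext v
    simp only [hD, Set.mem_ofPred_eq, Finset.mem_insert, Finset.mem_singleton, not_or]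
    constructor
    · rintro ⟨⟨k, l, hkl, rfl⟩, hne, hB⟩
      obtain ⟨e1, e2, e3, e4⟩ := pair_end hst hpq hkl hB
      refine ⟨k, l, ⟨fun h => hne ?_, fun h => hne ?_⟩, ⟨fun h => hne ?_, fun h => hne ?_⟩, hkl, rfl⟩
      · rw [h, e1 h]
      · rw [h, e2 h, add_comm]
      · rw [h, e3 h, add_comm]
      · rw [h, e4 h]
    · rintro ⟨k, l, ⟨h1, h2⟩, ⟨h3, h4⟩, hkl, rfl⟩
      refine ⟨⟨k, l, hkl, rfl⟩, fun h => ?_, star_B_zero hst (Ne.symm h1) (Ne.symm h3) (Ne.symm h2) (Ne.symm h4)⟩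
      rcases hinj k l p q hkl hpq h with ⟨e', -⟩ | ⟨e', -⟩
      · exact h1 e'
      · exact h2 e'
  have hn3 : {u | u ∈ e.C.D ∧ e.C.B (x p + x q) u = 0 ∧ e.C.B (x p + x r) u = 0}.ncard =
      (n - 3).choose 2 := by
    rw [show n - 3 = n - ({p, q, r} : Finset (Fin n)).card by simp [hpq, hpr, hqr], ← hpairs]
    congr 1
    ext v
    simp only [hD, Set.mem_ofPred_eq, Finset.mem_insert, Finset.mem_singleton, not_or]
    constructor
    · rintro ⟨⟨k, l, hkl, rfl⟩, h1, h2⟩
      obtain ⟨a1, a2, a3, a4⟩ := pair_end hst hpq hkl h1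
      obtain ⟨b1, b2, b3, b4⟩ := pair_end hst hpr hkl h2
      exact ⟨k, l, ⟨fun h => hqr ((a1 h).symm.trans (b1 h)), fun h => hqr (h.symm.trans (b3 (a2 h))),
          fun h => hqr ((a3 (b2 h)).symm.trans h)⟩,
        ⟨fun h => hqr ((a3 h).symm.trans (b3 h)), fun h => hqr (h.symm.trans (b1 (a4 h))),
          fun h => hqr ((a1 (b4 h)).symm.trans h)⟩, hkl, rfl⟩
    · rintro ⟨k, l, ⟨h1, h2, h3⟩, ⟨h4, h5, h6⟩, hkl, rfl⟩
      exact ⟨⟨k, l, hkl, rfl⟩, star_B_zero hst (Ne.symm h1) (Ne.symm h4) (Ne.symm h2) (Ne.symm h5),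
        star_B_zero hst (Ne.symm h1) (Ne.symm h4) (Ne.symm h3) (Ne.symm h6)⟩
  rw [hN, hA, hn3] at hL
  obtain ⟨c, hc, hb⟩ := trace_bound hP hd hL hnp hpl
  have hf := fits hP hd hL hc
  obtain ⟨⟨h, hμ, -⟩, -, hF, -⟩ := id hf
  have hAN := succ_lt hL
  rcases (show n = 5 ∨ n = 6 ∨ n = 7 ∨ 8 ≤ n by omega) with rfl | rfl | rfl | h8
  · norm_num [Nat.choose_two_right] at hb hμ hL hf
    rcases (show (perp₂ D d c).ncard = 2 ∨ (perp₂ D d c).ncard = 4 by omega) with h2 | h4
    · rw [h2] at hf; exact Arith.no_five hf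
    · exact trace_ne_four hP hd hL hc h4
  · norm_num [Nat.choose_two_right] at hb hμ hF hL hf
    rcases (show (perp₂ D d c).ncard = 4 ∨ (perp₂ D d c).ncard = 6 by omega) with h4 | h6
    · rcases hf.square (by norm_num) with ⟨s, -, hs, hss, -⟩ | hconf
      · rw [h4] at hss
        norm_num at hss
        have : s < 7 := by nlinarith
        interval_cases s <;> norm_num at hss
      · omega
    · refine hpl ((hP.noPlane_iff_card hd hc).2 ?_)
      rw [hL.perp_card, h6]
      rw [h6] at hF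
      norm_num [Nat.choose_two_right]
      omega
  · norm_num [Nat.choose_two_right] at hb hμ hL hf
    have h7 : (perp₂ D d c).ncard = 7 := by omega
    rcases hf.square (by norm_num) with ⟨s, -, hs, hss, -⟩ | hconf
    · rw [h7] at hss
      norm_num at hss
      have : s < 9 := by nlinarith
      interval_cases s <;> norm_num at hss
    · omega
  · obtain ⟨k, rfl⟩ : ∃ k, n = k + 3 := ⟨n - 3, by omega⟩
    simp only [show k + 3 - 3 = k by omega, show k + 3 - 2 = k + 1 by omega] at hb hμ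
    have c1 : (k + 3).choose 2 = (k + 1).choose 2 + 2 * k + 3 := by
      simp [Nat.choose_succ_succ, Nat.choose_one_right]; omega
    have c2 : ∀ j, 5 ≤ j → 2 * j ≤ j.choose 2 := by
      intro j hj
      induction j, hj using Nat.le_induction with
      | base => decide
      | succ j hj ih => simp [Nat.choose_succ_succ, Nat.choose_one_right] at ih ⊢; omega
    have := c2 k (by omega)
    omega

/-- no plane above a local class of symplectic type -/
theorem not_spType (hP : Prim D) (hd : d ∈ D) (hE : Prim (perpClass D d)) (hnp : NoPlane (perpClass D d))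
    (hpl : ¬ NoPlane D) (e : A.Emb (perpClass D d) V) (hs : IsSpType e.C) : False := by
  obtain ⟨hdim, hD⟩ := hs
  obtain ⟨m, hm, f, -⟩ := A.Models.exists_coords e.C
  obtain ⟨v, hv, w, hw, hvw, -⟩ := e.C.big
  have hL := locPar_emb hP hd hE e hv hw hvw
  obtain ⟨q4, q2⟩ := quarters e.C hvw
  set Z := {u | e.C.B v u = 0 ∧ e.C.B w u = 0}.ncard with hZ
  have hcard : Nat.card V = 2 ^ (2 * m) := (Nat.card_congr f.toEquiv).trans (ArfTwo.card_space m)
  obtain ⟨k, rfl⟩ : ∃ k, m = k + 3 := ⟨m - 3, by omega⟩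
  have hZq : Z = 2 ^ (k + 2) * 2 ^ (k + 2) := by
    have : 2 ^ (2 * (k + 3)) = 4 * (2 ^ (k + 2) * 2 ^ (k + 2)) := by ring
    omega
  have hZ1 : 16 ≤ Z := by
    rw [hZq, show 2 ^ (k + 2) * 2 ^ (k + 2) = 16 * (2 ^ k * 2 ^ k) by ring]
    exact Nat.le_mul_of_pos_right _ (by positivity)
  have hv0 := ne_zero e.C hv
  have hN : e.C.D.ncard + 1 = 4 * Z := by
    rw [hD, show {u : V | u ≠ 0} = {0}ᶜ from rfl, Set.ncard_compl, Set.ncard_singleton]
    omega
  have hA : {u | u ∈ e.C.D ∧ u ≠ v ∧ e.C.B v u = 0}.ncard + 2 = 2 * Z := by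
    have hs' : {u | u ∈ e.C.D ∧ u ≠ v ∧ e.C.B v u = 0} = {u | e.C.B v u = 0} \ {0, v} := by
      rw [hD]; ext u
      simp only [Set.mem_ofPred_eq, Set.mem_diff, Set.mem_insert_iff, Set.mem_singleton_iff, not_or]
      tauto
    have hsub : ({0, v} : Set V) ⊆ {u | e.C.B v u = 0} := by
      rintro u (rfl | rfl) <;> simp [e.C.alt]
    rw [hs', Set.ncard_sdiff hsub, Set.ncard_pair hv0.symm]
    omega
  have hn : {u | u ∈ e.C.D ∧ e.C.B v u = 0 ∧ e.C.B w u = 0}.ncard + 1 = Z := by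
    have hs' : {u | u ∈ e.C.D ∧ e.C.B v u = 0 ∧ e.C.B w u = 0} = {u | e.C.B v u = 0 ∧ e.C.B w u = 0} \ {0} := by
      rw [hD]; ext u
      simp only [Set.mem_ofPred_eq, Set.mem_diff, Set.mem_singleton_iff]
      tauto
    rw [hs', Set.ncard_sdiff (by simp), Set.ncard_singleton]
    omega
  obtain ⟨c, hc, hb⟩ := trace_bound hP hd hL hnp hpl
  have := Arith.symp_large (q := 2 ^ (k + 2)) ⟨2 ^ k, by ring⟩
    (by rw [show 2 ^ (k + 2) = 4 * 2 ^ k by ring]; exact Nat.le_mul_of_pos_right _ (by positivity))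
    (fun h => by have := Nat.Prime.dvd_of_dvd_pow Nat.prime_three h; norm_num at this)
    (by omega) (by omega) (by omega) (fits hP hd hL hc)
  omega

/-- above a local class of orthogonal type: only minus type in dimension six -/
theorem orthType (hP : Prim D) (hd : d ∈ D) (hE : Prim (perpClass D d)) (hnp : NoPlane (perpClass D d))
    (hpl : ¬ NoPlane D) (e : A.Emb (perpClass D d) V) (hs : IsOrthType e.C) :
    IsOMinusClass (perpClass D d) 2 := by
  obtain ⟨hdim, q, hq, hD⟩ := hs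
  obtain ⟨m, hm, f, hf⟩ := A.Models.exists_coords e.C
  have hpol : ArfTwo.Polar m fun y => q (f.symm y) := fun u v => by
    show q (f.symm (u + v)) = q (f.symm u) + q (f.symm v) + ArfTwo.bil m u v
    rw [map_add, hq, ← A.Models.stdForm_eq_bil, ← hf, f.apply_symm_apply, f.apply_symm_apply]
  obtain ⟨w0, hw0⟩ := ArfTwo.exists_shift hpol
  have hqv : ∀ v, q v = ArfTwo.shift m w0 (f v) := fun v => by
    rw [← hw0]; simp
  obtain ⟨v, hv, w, hw, hvw, -⟩ := e.C.big
  have hL := locPar_emb hP hd hE e hv hw hvw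
  have hv1 : q v = 1 := by rw [hD] at hv; exact hv
  have hw1 : q w = 1 := by rw [hD] at hw; exact hw
  obtain ⟨q4, -⟩ := quarters e.C hvw
  obtain ⟨n0, hn0, hS, hT⟩ := ones_classes e.C hvw hq hv1 hw1
  set Z := {u | e.C.B v u = 0 ∧ e.C.B w u = 0}.ncard with hZ
  set n1 := {u | e.C.B v u = 0 ∧ e.C.B w u = 0 ∧ q u = 1}.ncard with hn1
  have hcard : Nat.card V = 2 ^ (2 * m) := (Nat.card_congr f.toEquiv).trans (ArfTwo.card_space m)
  have hA : {u | u ∈ e.C.D ∧ u ≠ v ∧ e.C.B v u = 0}.ncard + 1 = Z := by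
    have hs' : {u | u ∈ e.C.D ∧ u ≠ v ∧ e.C.B v u = 0} = {u | q u = 1 ∧ e.C.B v u = 0} \ {v} := by
      rw [hD]; ext u
      simp only [Set.mem_ofPred_eq, Set.mem_diff, Set.mem_singleton_iff]
      tauto
    have hpos : 0 < {u | q u = 1 ∧ e.C.B v u = 0}.ncard :=
      (Set.ncard_pos (Set.toFinite _)).2 ⟨v, hv1, e.C.alt v⟩
    rw [hs', Set.ncard_sdiff_singleton_of_mem (show v ∈ {u | q u = 1 ∧ e.C.B v u = 0} from ⟨hv1, e.C.alt v⟩)]
    omega
  have hn : {u | u ∈ e.C.D ∧ e.C.B v u = 0 ∧ e.C.B w u = 0}.ncard = n1 := by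
    rw [hn1, hD]; congr 1; ext u; simp only [Set.mem_ofPred_eq]; tauto
  have hN : e.C.D.ncard = n1 + 3 * n0 := by rw [hD]; exact hS
  rw [hN, hn] at hL
  have hzero : {u | q u = 1}.ncard + Nat.card {y // ArfTwo.shift m w0 y = 0} = 2 ^ (2 * m) := by
    have e1 := ncard_split (fun _ : V => True) q
    simp only [true_and, Set.ofPred_true, Set.ncard_univ] at e1
    have e2 : Nat.card {y // ArfTwo.shift m w0 y = 0} = {u | q u = 0}.ncard := by
      rw [← Nat.card_coe_set_eq]
      exact (Nat.card_congr (Equiv.subtypeEquiv f.toEquiv fun u => by show q u = 0 ↔ _; rw [hqv]; rfl)).symm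
    omega
  rw [hS, ArfTwo.card_zeros_shift m (by omega)] at hzero
  obtain ⟨k, rfl⟩ : ∃ k, m = k + 3 := ⟨m - 3, by omega⟩
  have p1 : 2 ^ (2 * (k + 3)) = 4 * (2 ^ (k + 2) * 2 ^ (k + 2)) := by ring
  have p2 : 2 ^ (2 * (k + 3) - 1) = 2 * (2 ^ (k + 2) * 2 ^ (k + 2)) := by
    rw [show 2 * (k + 3) - 1 = 2 * k + 5 by omega]; ring
  have p3 : 2 ^ (k + 3 - 1) = 2 ^ (k + 2) := rfl
  have hqle : 2 ^ (k + 2) ≤ 2 ^ (k + 2) * 2 ^ (k + 2) := Nat.le_mul_of_pos_left _ (by positivity)
  have hZq : Z = 2 ^ (k + 2) * 2 ^ (k + 2) := by omega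
  obtain ⟨c, hc, hb⟩ := trace_bound hP hd hL hnp hpl
  have hf' := fits hP hd hL hc
  have key : ∀ s : ℤ, s = 1 ∨ s = -1 →
      ((n1 + 3 * n0 : ℕ) : ℤ) = (2 : ℤ) ^ (k + 2) * (2 * (2 : ℤ) ^ (k + 2) - s) → 1 ≤ k → False := by
    intro s hs hNs hk
    refine Arith.no_orth (q := 2 ^ (k + 2)) hs ⟨2 ^ k, by ring⟩ ?_ ?_ (by push_cast; exact_mod_cast hNs) ?_ ?_ hf'
    · rcases (show k = 1 ∨ 2 ≤ k by omega) with rfl | h2
      · exact Or.inl rfl
      · exact Or.inr (le_trans (by norm_num) (Nat.pow_le_pow_right (by norm_num) (show 4 ≤ k + 2 by omega)))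
    · intro a ha
      have h2 : Nat.Coprime a 2 := Nat.coprime_two_right.2 ha
      exact Nat.Coprime.mul_right (h2.pow_right _) (h2.pow_right _)
    · exact_mod_cast (by omega : {u | u ∈ e.C.D ∧ u ≠ v ∧ e.C.B v u = 0}.ncard + 1 = 2 ^ (k + 2) * 2 ^ (k + 2))
    · have hZz : (n1 : ℤ) + n0 = (2 : ℤ) ^ (k + 2) * 2 ^ (k + 2) := by exact_mod_cast (by omega : n1 + n0 = _)
      push_cast at hNs ⊢
      linear_combination 3 * hZz - hNs
  obtain ⟨⟨h, hμ, -⟩, -, -, -⟩ := id hf'
  unfold ArfTwo.zerosPlus at hzero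
  rcases ArfTwo.two_cases (quadFormPlus (k + 3) (ZMod 2) w0) with hw' | hw'
  · rw [if_pos hw', p1, p2, p3] at hzero
    exfalso
    rcases Nat.eq_zero_or_pos k with rfl | hk
    · norm_num at hzero hZq
      omega
    · refine key 1 (Or.inl rfl) ?_ hk
      have : ((n1 + 3 * n0 : ℕ) : ℤ) + 2 ^ (k + 2) = 2 * (2 ^ (k + 2) * 2 ^ (k + 2)) := by
        exact_mod_cast (by omega : n1 + 3 * n0 + 2 ^ (k + 2) = 2 * (2 ^ (k + 2) * 2 ^ (k + 2)))
      linear_combination this
  · rw [if_neg (by rw [hw']; decide), p1, p2, p3] at hzero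
    rcases Nat.eq_zero_or_pos k with rfl | hk
    · obtain ⟨g, hg⟩ := ArfTwo.shift_minus 3 (by omega) w0 hw'
      haveI : Fact (Nat.Prime 2) := ⟨Nat.prime_two⟩
      exact A.Models.exists_equiv_isometry hE e hq hD (Forms.qMinus 2 1 1)
        (fun v => (Forms.qMinus_apply 2 1 1 v).symm) (Forms.qMinus_nondeg 2 ArfTwo.bin_aniso)
        (by simp) (f.trans g) fun v => by rw [LinearEquiv.trans_apply, Forms.qMinus_apply, ← hg, hqv]
    · exfalso
      refine key (-1) (Or.inr rfl) ?_ hk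
      have : ((n1 + 3 * n0 : ℕ) : ℤ) = 2 * (2 ^ (k + 2) * 2 ^ (k + 2)) + 2 ^ (k + 2) := by
        exact_mod_cast (by omega : n1 + 3 * n0 = 2 * (2 ^ (k + 2) * 2 ^ (k + 2)) + 2 ^ (k + 2))
      linear_combination this

/-- a plane above a local class of symplectic type: the local class is the six-dimensional minus class -/
theorem symp_core (hP : Prim D) (hd : d ∈ D) (hE : Prim (perpClass D d)) (hnp : NoPlane (perpClass D d))
    (hpl : ¬ NoPlane D) : IsOMinusClass (perpClass D d) 2 := by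
  obtain ⟨V, _, _, _, ⟨e⟩⟩ := A.exists_emb hE hnp
  rcases SympTypeF2x73.classify e.C with hs | hs | hs
  · exact (not_symType hP hd hE hnp hpl e hs).elim
  · exact orthType hP hd hE hnp hpl e hs
  · exact (not_spType hP hd hE hnp hpl e hs).elim

end Cfsg.Agent.Lib.FischerThm.G
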