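import Cfsg.Agent.Lib.FischerThm.G.Five
import Cfsg.Agent.Lib.FischerThm.G.Big
import Cfsg.Agent.Lib.FischerThm.D.Node
import Cfsg.Agent.Lib.FischerImpossible42.ArithUnitary

/-!
# Node G2

Owner: helper42.
-/

set_option autoImplicit false
set_option linter.style.haveILetI false

namespace Cfsg.Agent.Lib.FischerThm.G

open Cfsg Cfsg.Agent.Lib.Unitary Cfsg.Agent.Lib.FischerImpossible42

universe u

variable {G : Type u} [Group G] [Finite G] {D : Set G} {d : G}

theorem exists_far (hP : Prim D) (hd : d ∈ D) {N A n : ℕ} (hL : LocPar D d N A n) : ∃ c, c ∈ far D d := by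
  obtain ⟨b, hb, c, hc, hbc⟩ := hL.noncomm
  obtain ⟨g, hg⟩ := hP.hprim.1 b hb.1 d hd
  exact ⟨g * c * g⁻¹, hP.hD.2.1 g c hc.1, fun h => hbc ((Commute.conj_iff g).1 (by rwa [hg]))⟩

theorem upar {F : Type} [Field F] [Fintype F] (hF : Fintype.card F = 2 ^ 2) {m N A k : ℕ} (hm : 7 ≤ m)
    (hN : 3 * N + 1 = countNull F 2 m) (hA : 3 * A + 4 = 4 * countNull F 2 (m - 2))
    (hk : 3 * k + 1 = countNull F 2 (m - 2)) : Arith.UPar m N A k := by
  obtain ⟨j, rfl⟩ : ∃ j, m = j + 2 := ⟨m - 2, by omega⟩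
  rw [Nat.add_sub_cancel] at hA hk
  have e1 := q_mul_countNull hF (j + 2)
  have e2 := q_mul_countNull hF j
  have hN' : 3 * (N : ℤ) + 1 = countNull F 2 (j + 2) := by exact_mod_cast hN
  have hA' : 3 * (A : ℤ) + 4 = 4 * countNull F 2 j := by exact_mod_cast hA
  have hk' : 3 * (k : ℤ) + 1 = countNull F 2 j := by exact_mod_cast hk
  push_cast at e1 e2
  refine ⟨?_, ?_, ?_⟩
  · linear_combination 2 * hN' + e1
  · rw [show 2 * (j + 2) - 2 = 2 * j + 2 by omega]
    linear_combination 2 * hA' + 4 * e2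
  · rw [show 2 * (j + 2) - 4 = 2 * j by omega, show j + 2 - 2 = j by omega]
    linear_combination 2 * hk' + e2

theorem nodeG2 : NodeG2.{u} := by
  intro G _ _ D _ hP hLC d hd h
  obtain ⟨hE, -⟩ := FischerThm.D.nodeD G D hP hLC d hd
  rcases h with ⟨n, hn4, h4, h6, hU⟩ | h24
  · rcases (show n = 5 ∨ 7 ≤ n by omega) with rfl | h7
    · exact Five.not_five hP hd hE hU
    · obtain ⟨F, _, _, ⟨U⟩, N, A, k, hL, hN, hA, hk⟩ := locPar_unitary hP hd hE hn4 hU
      obtain ⟨c, hc⟩ := exists_far hP hd hL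
      exact Arith.no_unitary h7 (upar U.hF h7 hN hA hk) (fits hP hd hL hc)
  · exact not_M24 hP hd hE h24

end Cfsg.Agent.Lib.FischerThm.G
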