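import Cfsg.Agent.Lib.FischerThm.G.Num
import Cfsg.Agent.Lib.FischerThm.H1.Unitary
import Cfsg.Agent.Lib.Unitary.Isotropic
import Cfsg.Agent.S1631

/-!
# Node G2: a unitary class as the isotropic points, and its parameters

Owner: helper42.
-/

set_option autoImplicit false
set_option linter.style.haveILetI false
set_option linter.unusedSectionVars false

namespace Cfsg.Agent.Lib.FischerThm.G

open Matrix Cfsg Cfsg.Agent.Lib.Unitary Cfsg.Agent.Lib.UnitaryFour.Transvection
open Cfsg.Agent.Lib.FischerMTypes.Primitive (perp₂)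

universe u

variable {F : Type} [Field F] [Fintype F] {n : ℕ}

/-- non-zero isotropic vectors -/
def Iso (v : Fin n → F) : Prop := hermForm n F 2 v v = 0 ∧ v ≠ 0

theorem iso_smul (hF : Fintype.card F = 2 ^ 2) {v : Fin n → F} (hv : Iso v) {c : F} (hc : c ≠ 0) :
    Iso (c • v) :=
  ⟨by simp [herm_smul_left, herm_smul_right, hv.1], smul_ne_zero hc hv.2⟩

theorem exists_orth_pair (hF : Fintype.card F = 2 ^ 2) (hn : 3 ≤ n) (v w : Fin n → F) :
    ∃ u : Fin n → F, u ≠ 0 ∧ hermForm n F 2 u v = 0 ∧ hermForm n F 2 u w = 0 := by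
  classical
  have hne : Unitary.perp 2 (Submodule.span F ({v, w} : Set (Fin n → F))) ≠ ⊥ := by
    intro h
    have h1 := finrank_perp hF (Submodule.span F ({v, w} : Set (Fin n → F)))
    rw [h, finrank_bot] at h1
    have h2 : Module.finrank F (Submodule.span F ({v, w} : Set (Fin n → F))) ≤ 2 := by
      have := finrank_span_finset_le_card (R := F) ({v, w} : Finset (Fin n → F))
      rw [Finset.coe_pair] at this
      exact this.trans Finset.card_le_two
    omega
  obtain ⟨u, hu, hu0⟩ := Submodule.exists_mem_ne_zero_of_ne_bot hne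
  exact ⟨u, hu0, hu v (Submodule.subset_span (by simp)), hu w (Submodule.subset_span (by simp))⟩

/-- a class indexed by isotropic points, commuting as they are orthogonal -/
structure UPts {Q : Type u} [Group Q] (E : Set Q) (F : Type) [Field F] [Fintype F] (n : ℕ) where
  hF : Fintype.card F = 2 ^ 2
  pt : (Fin n → F) → Q
  mem : ∀ v, Iso v → pt v ∈ E
  surj : ∀ y ∈ E, ∃ v, Iso v ∧ pt v = y
  comm : ∀ v w, Iso v → Iso w → (Commute (pt v) (pt w) ↔ hermForm n F 2 v w = 0)
  inj : ∀ v w, Iso v → Iso w → pt v = pt w → ∃ c : F, c ≠ 0 ∧ w = c • v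
  smul : ∀ v (c : F), Iso v → c ≠ 0 → pt (c • v) = pt v
  hom : ↥(SU n F 2) →* Q
  pt_eq : ∀ v (hv : Iso v), pt v = hom (tv hF v hv.1)

theorem exists_upts {Q : Type u} [Group Q] {E : Set Q} (hn : 4 ≤ n) (h : IsUClass E n) :
    ∃ (F : Type) (_ : Field F) (_ : Fintype F), Nonempty (UPts E F n) := by
  classical
  obtain ⟨F, iF, iF', hF4, e, he⟩ := h
  have hF : Fintype.card F = 2 ^ 2 := by rw [hF4]; norm_num
  let T : (Fin n → F) → ↥(SU n F 2) := fun v =>
    if hv : hermForm n F 2 v v = 0 then tv hF v hv else 1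
  have hT : ∀ v (hv : hermForm n F 2 v v = 0), T v = tv hF v hv := fun v hv => dif_pos hv
  let P : (Fin n → F) → Cfsg.PSU n F 2 := fun v => QuotientGroup.mk (T v)
  refine ⟨F, iF, iF', ⟨⟨hF, fun v => e.symm (P v), ?_, ?_, ?_, ?_, ?_,
    e.symm.toMonoidHom.comp (QuotientGroup.mk' _), fun v hv => ?_⟩⟩⟩
  · intro v hv
    have hm : P v ∈ e '' E := by
      rw [he]
      exact ⟨tv hF v hv.1, Cfsg.Agent.S1631.rank_tv hF hv.1 hv.2, by rw [← hT v hv.1]⟩
    obtain ⟨y, hy, hy'⟩ := hm
    rwa [← hy', e.symm_apply_apply]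
  · intro y hy
    have hm : e y ∈ e '' E := ⟨y, hy, rfl⟩
    rw [he] at hm
    obtain ⟨g, hg, hg'⟩ := hm
    obtain ⟨w, hw, hw0, rfl⟩ := Cfsg.Agent.S1631.exists_tv_of_rank hF g hg
    refine ⟨w, ⟨hw, hw0⟩, ?_⟩
    show e.symm (QuotientGroup.mk (T w)) = y
    rw [hT w hw, hg', e.symm_apply_apply]
  · intro v w hv hw
    rw [← H1.tvImage_commute_iff hF (by omega) hv.1 hw.1]
    show Commute (e.symm (P v)) (e.symm (P w)) ↔ _
    constructor
    · intro h
      have h' := h.map e
      simp only [MulEquiv.apply_symm_apply, P, hT v hv.1, hT w hw.1] at h'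
      exact h'
    · intro h
      refine Commute.map ?_ e.symm
      simp only [P, hT v hv.1, hT w hw.1]
      exact h
  · intro v w hv hw h
    have h' : P v = P w := e.symm.injective h
    simp only [P, hT v hv.1, hT w hw.1] at h'
    have hz : tv hF v hv.1 * tv hF w hw.1 ∈ Subgroup.center (SU n F 2) := by
      rw [← QuotientGroup.eq_one_iff, QuotientGroup.mk_mul, h', ← QuotientGroup.mk_mul, tv_mul_self hF,
        QuotientGroup.mk_one]
    obtain ⟨u, hu0, hu1, hu2⟩ := exists_orth_pair hF (by omega) v w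
    obtain ⟨l, hl⟩ := (mem_center_SU_iff hF (by omega) _).1 hz
    have hl1 : l = 1 := by
      refine smul_left_injective F hu0 ?_
      show l • u = (1 : F) • u
      rw [one_smul, ← hl u]
      show act (tv hF v hv.1 * tv hF w hw.1) u = u
      simp [act_mul, act_tv, hu1, hu2]
    have h1 : tv hF v hv.1 * tv hF w hw.1 = 1 := ext' fun x => by
      rw [act_one]
      show _ *ᵥ x = x
      rw [hl, hl1, one_smul]
    have heq : tv hF w hw.1 = tv hF v hv.1 := by
      rw [← inv_eq_of_mul_eq_one_right h1, inv_eq_of_mul_eq_one_right (tv_mul_self hF hv.1)]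
    obtain ⟨f, hf⟩ := exists_hyp hF hw.2 hw.1
    have h2 := congrArg (fun g => act g f) heq
    simp only [act_tv, hf.symm' hF, one_smul] at h2
    have h3 := add_left_cancel h2
    exact ⟨hermForm n F 2 f v, fun h0 => hw.2 (by rw [h3, h0, zero_smul]), h3⟩
  · intro v c hv hc
    show e.symm (P (c • v)) = e.symm (P v)
    refine congrArg e.symm (congrArg QuotientGroup.mk ?_)
    rw [hT v hv.1, hT (c • v) (iso_smul hF hv hc).1]
    exact tv_smul hF hv.1 hc _
  · show e.symm (QuotientGroup.mk (T v)) = e.symm (QuotientGroup.mk (tv hF v hv.1))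
    rw [hT v hv.1]

theorem act_ne_zero (g : ↥(SU n F 2)) {v : Fin n → F} (hv : v ≠ 0) : act g v ≠ 0 := fun h => hv (by
  rw [← act_inv_self g v, h]; simp [act_def])

/-- conjugation is the action on vectors -/
theorem UPts.conj {Q : Type u} [Group Q] {E : Set Q} (U : UPts E F n) (g : ↥(SU n F 2)) {v : Fin n → F}
    (hv : Iso v) : U.hom g * U.pt v * (U.hom g)⁻¹ = U.pt (act g v) := by
  have hw : Iso (act g v) := ⟨by rw [act_herm]; exact hv.1, act_ne_zero g hv.2⟩
  rw [U.pt_eq v hv, U.pt_eq _ hw, tv_conj U.hF g hv.1 hw.1, map_mul, map_mul, map_inv]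

/-- the third point of a line -/
theorem UPts.conj_pt {Q : Type u} [Group Q] {E : Set Q} (U : UPts E F n) {v w : Fin n → F} (hv : Iso v)
    (hw : Iso w) : U.pt v * U.pt w * U.pt v = U.pt (w + hermForm n F 2 w v • v) := by
  have h := U.conj (tv U.hF v hv.1) hw
  rw [act_tv, ← U.pt_eq v hv] at h
  rwa [inv_eq_of_mul_eq_one_right
    (show U.pt v * U.pt v = 1 by rw [U.pt_eq v hv, ← map_mul, tv_mul_self, map_one])] at h

variable {Q : Type u} [Group Q] [Finite Q] {E : Set Q}

/-- numbers of points from numbers of vectors -/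
theorem UPts.three_mul (U : UPts E F n) (P : Q → Prop) :
    3 * {y | y ∈ E ∧ P y}.ncard = {v : Fin n → F | Iso v ∧ P (U.pt v)}.ncard := by
  classical
  have hsel : ∀ y : {y // y ∈ E ∧ P y}, ∃ v, Iso v ∧ U.pt v = y.1 := fun y => U.surj _ y.2.1
  choose r hr1 hr2 using hsel
  let f : {y // y ∈ E ∧ P y} × {c : F // c ≠ 0} → {v : Fin n → F // Iso v ∧ P (U.pt v)} :=
    fun p => ⟨p.2.1 • r p.1, iso_smul U.hF (hr1 p.1) p.2.2, by
      rw [U.smul _ _ (hr1 p.1) p.2.2, hr2]; exact p.1.2.2⟩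
  have hf : Function.Bijective f := by
    constructor
    · rintro ⟨y, c, hc⟩ ⟨y', c', hc'⟩ he
      have he' : c • r y = c' • r y' := congrArg Subtype.val he
      have hyy : y = y' := Subtype.ext (by
        rw [← hr2 y, ← hr2 y', ← U.smul _ _ (hr1 y) hc, he', U.smul _ _ (hr1 y') hc'])
      subst hyy
      rw [Prod.mk.injEq]
      exact ⟨rfl, Subtype.ext (smul_left_injective F (hr1 y).2 he')⟩
    · rintro ⟨v, hv, hP⟩
      set y : {y // y ∈ E ∧ P y} := ⟨U.pt v, U.mem v hv, hP⟩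
      obtain ⟨c, hc, he⟩ := U.inj _ _ (hr1 y) hv (hr2 y)
      exact ⟨(y, ⟨c, hc⟩), Subtype.ext he.symm⟩
  have h3 : Nat.card {c : F // c ≠ 0} = 3 := by
    rw [Nat.card_eq_fintype_card, Fintype.card_subtype_compl, U.hF, Fintype.card_subtype_eq]
    norm_num
  rw [← Nat.card_coe_set_eq, ← Nat.card_coe_set_eq]
  show 3 * Nat.card {y // y ∈ E ∧ P y} = Nat.card {v : Fin n → F // Iso v ∧ P (U.pt v)}
  rw [← Nat.card_congr (Equiv.ofBijective f hf), Nat.card_prod, h3, mul_comm]

theorem card_iso (hF : Fintype.card F = 2 ^ 2) :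
    {v : Fin n → F | Iso v}.ncard + 1 = countNull F 2 n := by
  classical
  have h : {v : Fin n → F | hermForm n F 2 v v = 0} = insert 0 {v : Fin n → F | Iso v} := by
    ext v
    simp only [Iso, Set.mem_ofPred_eq, Set.mem_insert_iff]
    by_cases hv : v = 0
    · simp [hv, herm_zero_left]
    · simp [hv]
  show _ = Nat.card {v : Fin n → F // hermForm n F 2 v v = 0}
  rw [show Nat.card {v : Fin n → F // hermForm n F 2 v v = 0} = _ from
    Nat.card_coe_set_eq {v : Fin n → F | hermForm n F 2 v v = 0}, h,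
    Set.ncard_insert_of_notMem (fun hh => hh.2 rfl)]

/-- isotropic vectors orthogonal to a hyperbolic pair -/
theorem card_orth_hyp (hF : Fintype.card F = 2 ^ 2) {e f : Fin n → F} (h : Hyp 2 e f) :
    {v : Fin n → F | Iso v ∧ hermForm n F 2 e v = 0 ∧ hermForm n F 2 f v = 0}.ncard + 1 =
      countNull F 2 (n - 2) := by
  classical
  obtain ⟨g, hg, ho, hli⟩ := h.exists_complement hF
  have key : ∀ x : Fin (n - 2) → F, hermForm n F 2 (∑ i, x i • g i) (∑ i, x i • g i) =
      hermForm (n - 2) F 2 x x := by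
    intro x
    rw [herm_sum_sum hF]
    simp only [hg _ _, mul_ite, mul_one, mul_zero, Finset.sum_ite_eq, Finset.mem_univ, if_true]
    rfl
  rw [← card_iso hF]
  congr 1
  refine (Set.ncard_congr (fun x _ => ∑ i, x i • g i) ?_ ?_ ?_).symm
  · rintro x ⟨hx, hx0⟩
    refine ⟨⟨(key x).trans hx, fun h0 => hx0 (funext fun i => ?_)⟩, ?_, ?_⟩
    · have := orthonormal_coeff hg x i
      rw [h0, herm_zero_left] at this
      exact this.symm
    · exact herm_eq_zero_symm hF (by simp [herm_sum_left, herm_smul_left, (ho _).1])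
    · exact herm_eq_zero_symm hF (by simp [herm_sum_left, herm_smul_left, (ho _).2])
  · intro x y _ _ he
    funext i
    rw [← orthonormal_coeff hg x i, he, orthonormal_coeff hg y i]
  · rintro v ⟨hv, hev, hfv⟩
    have hexp := h.complement_expand hF hg ho hli (herm_eq_zero_symm hF hev) (herm_eq_zero_symm hF hfv)
    refine ⟨fun i => hermForm n F 2 v (g i), ⟨?_, fun h0 => hv.2 ?_⟩, hexp.symm⟩
    · rw [← key, ← hexp]; exact hv.1
    · rw [hexp]
      exact Finset.sum_eq_zero fun i _ => by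
        rw [show hermForm n F 2 v (g i) = 0 from congrFun h0 i, zero_smul]

variable {G : Type u} [Group G] [Finite G] {D : Set G} {d : G}

/-- the parameters of a unitary local class -/
theorem locPar_unitary (hP : Prim D) (hd : d ∈ D) (hE : Prim (perpClass D d)) (hn : 4 ≤ n)
    (h : IsUClass (perpClass D d) n) :
    ∃ (F : Type) (_ : Field F) (_ : Fintype F), Nonempty (UPts (perpClass D d) F n) ∧
    ∃ N A k : ℕ, LocPar D d N A k ∧ 3 * N + 1 = countNull F 2 n ∧ 3 * A + 4 = 4 * countNull F 2 (n - 2) ∧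
      3 * k + 1 = countNull F 2 (n - 2) := by
  classical
  obtain ⟨F, iF, iF', ⟨U⟩⟩ := exists_upts hn h
  obtain ⟨v, f, hvf⟩ := exists_hyp_any (n := n) U.hF (by omega)
  have hv : Iso v := ⟨hvf.1, fun h0 => by simpa [h0, herm_zero_left] using hvf.2.2⟩
  have hf : Iso f := ⟨hvf.2.1, fun h0 => by simpa [h0, herm_zero_right _ U.hF] using hvf.2.2⟩
  have hne : hermForm n F 2 v f ≠ 0 := by rw [hvf.2.2]; exact one_ne_zero
  refine ⟨F, iF, iF', ⟨U⟩, _, _, _, locPar_of hP hd hE (U.mem v hv) (U.mem f hf)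
    (fun hc => hne ((U.comm v f hv hf).1 hc)) rfl rfl rfl, ?_, ?_, ?_⟩
  · have h3 := U.three_mul (fun _ => True)
    simp only [and_true, Set.ofPred_mem_eq] at h3
    rw [h3, card_iso U.hF]
  · have h3 := U.three_mul (fun y => y ≠ U.pt v ∧ Commute (U.pt v) y)
    have e1 : FischerMTypes.Primitive.perp (perpClass D d) (U.pt v) =
        {y | y ∈ perpClass D d ∧ (y ≠ U.pt v ∧ Commute (U.pt v) y)} := rfl
    rw [← e1] at h3
    rw [h3, show {w : Fin n → F | Iso w ∧ U.pt w ≠ U.pt v ∧ Commute (U.pt v) (U.pt w)} =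
      {w | hermForm n F 2 w v = 0 ∧ hermForm n F 2 w w = 0 ∧ ∀ a : F, w ≠ a • v} from ?_]
    · rw [← Nat.card_coe_set_eq]
      have h4 := card_orth_iso U.hF hv.2 hv.1
      have hpos : 0 < countNull F 2 (n - 2) := by
        rw [← card_iso U.hF]; omega
      refine (congrArg (· + 4) h4).trans ?_
      omega
    · ext w
      constructor
      · rintro ⟨hw, hne', hc⟩
        refine ⟨herm_eq_zero_symm U.hF ((U.comm v w hv hw).1 hc), hw.1, fun a ha => hne' ?_⟩
        have ha0 : a ≠ 0 := fun h0 => hw.2 (by rw [ha, h0, zero_smul])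
        rw [ha, U.smul v a hv ha0]
      · rintro ⟨h1, h2, h3'⟩
        have hw : Iso w := ⟨h2, fun h0 => h3' 0 (by rw [h0, zero_smul])⟩
        refine ⟨hw, fun e => ?_, (U.comm v w hv hw).2 (herm_eq_zero_symm U.hF h1)⟩
        obtain ⟨c, -, hc⟩ := U.inj v w hv hw e.symm
        exact h3' c hc
  · have h3 := U.three_mul (fun y => Commute (U.pt v) y ∧ Commute (U.pt f) y)
    have e1 : perp₂ (perpClass D d) (U.pt v) (U.pt f) =
        {y | y ∈ perpClass D d ∧ (Commute (U.pt v) y ∧ Commute (U.pt f) y)} := by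
      ext y
      refine ⟨fun hy => ⟨hy.1.1, hy.1.2.2, hy.2.2.2⟩, fun hy => ?_⟩
      exact ⟨⟨hy.1, fun e => hne (herm_eq_zero_symm U.hF ((U.comm f v hf hv).1 (e ▸ hy.2.2))), hy.2.1⟩,
        hy.1, fun e => hne ((U.comm v f hv hf).1 (e ▸ hy.2.1)), hy.2.2⟩
    rw [← e1] at h3
    rw [h3, ← card_orth_hyp U.hF hvf]
    congr 2
    ext w
    exact ⟨fun hw => ⟨hw.1, (U.comm v w hv hw.1).1 hw.2.1, (U.comm f w hf hw.1).1 hw.2.2⟩,
      fun hw => ⟨hw.1, (U.comm v w hv hw.1).2 hw.2.1, (U.comm f w hf hw.1).2 hw.2.2⟩⟩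

end Cfsg.Agent.Lib.FischerThm.G
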